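import Cfsg.Agent.Omega.NoFF.Basic

/-!
# NO-3S, natural lines: points are TI (TEXT 44-1, bb OMEGA #13339)

`S` a Sylow 2-subgroup of `G`, `Z = Ω₁(Z(S))`, `S ≤ P ≤ N_G(V)`, `V = ⟨Z^P⟩` a natural `SL₂(q)`-module for `P`, `Z` of
order `q`. Points are the conjugates of `Z`, lines the conjugates of `V`, incidence is inclusion.

* `ws V X` : the product of the lines on the point `X`; `kx V X` : the kernel of `C_G(X)` on `ws V X / X`;
* `PL S P V Z` : the hypotheses (elementary group theory only); `ti` is the TI-hypothesis `C_G(z) ≤ N_G(Z)`, `z ∈ Z#`;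
* `PL.conj` : everything is invariant under conjugation, so that `(Z, V)` can be any incident pair;
* `PL.pt_eq` : (T2) points are TI; `PL.two_comm` : (T3) a 2-element commuting with an element of `Z#` centralises `Z`.
-/

set_option autoImplicit false

namespace Cfsg.Agent.Omega.NO3S.PT

open Subgroup Cfsg.Agent.Omega.NoFF.Basic
open scoped Pointwise

variable {G : Type*} [Group G]

/-- conjugate of a subgroup -/
abbrev cj (g : G) (H : Subgroup G) : Subgroup G := MulAut.conj g • H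

/-- `X` is a conjugate of `Z`. -/
def IsCj (Z X : Subgroup G) : Prop := ∃ g : G, X = cj g Z

/-- The product of the lines (conjugates of `V`) containing `X`. -/
def ws (V X : Subgroup G) : Subgroup G := sSup {L | IsCj V L ∧ X ≤ L}

/-- The kernel of `C_G(X)` on `ws V X / X`. -/
def kx (V X : Subgroup G) : Subgroup G where
  carrier := {g | (∀ x ∈ X, g * x = x * g) ∧ ∀ w ∈ ws V X, g * w * g⁻¹ * w⁻¹ ∈ X}
  one_mem' := ⟨fun x _ => by rw [one_mul, mul_one], fun w _ => by simp⟩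
  mul_mem' := by
    rintro a b ⟨ha, ha'⟩ ⟨hb, hb'⟩
    refine ⟨fun x hx => by rw [mul_assoc, hb x hx, ← mul_assoc, ha x hx, mul_assoc], fun w hw => ?_⟩
    have h1 : a * b * w * (a * b)⁻¹ * w⁻¹ = a * (b * w * b⁻¹ * w⁻¹) * a⁻¹ * (a * w * a⁻¹ * w⁻¹) := by group
    have h2 : a * (b * w * b⁻¹ * w⁻¹) * a⁻¹ = b * w * b⁻¹ * w⁻¹ := by
      rw [ha _ (hb' w hw), mul_inv_cancel_right]
    rw [h1, h2]
    exact X.mul_mem (hb' w hw) (ha' w hw)
  inv_mem' := by
    rintro a ⟨ha, ha'⟩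
    have hc : ∀ x ∈ X, a⁻¹ * x = x * a⁻¹ := fun x hx => by
      rw [inv_mul_eq_iff_eq_mul, ← mul_assoc, ha x hx, mul_inv_cancel_right]
    refine ⟨hc, fun w hw => ?_⟩
    have h1 : a⁻¹ * w * a⁻¹⁻¹ * w⁻¹ = a⁻¹ * (a * w * a⁻¹ * w⁻¹)⁻¹ * a := by group
    rw [h1, hc _ (X.inv_mem (ha' w hw)), inv_mul_cancel_right]
    exact X.inv_mem (ha' w hw)

theorem mem_kx {V X : Subgroup G} {g : G} : g ∈ kx V X ↔ (∀ x ∈ X, g * x = x * g) ∧
    ∀ w ∈ ws V X, g * w * g⁻¹ * w⁻¹ ∈ X := Iff.rfl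

/-! ### Conjugation -/

theorem cj_one (H : Subgroup G) : cj 1 H = H := by rw [cj, map_one, one_smul]

theorem cj_cj (g h : G) (H : Subgroup G) : cj g (cj h H) = cj (g * h) H := conj_conj g h H

theorem mem_cj {g x : G} {H : Subgroup G} : x ∈ cj g H ↔ g⁻¹ * x * g ∈ H := mem_conj

theorem conj_mem_cj {g x : G} {H : Subgroup G} (hx : x ∈ H) : g * x * g⁻¹ ∈ cj g H := by
  rw [mem_cj]
  have : g⁻¹ * (g * x * g⁻¹) * g = x := by group
  rwa [this]

theorem cj_le_cj {g : G} {A B : Subgroup G} : cj g A ≤ cj g B ↔ A ≤ B := conj_le_iff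

theorem cj_le_iff {g : G} {A B : Subgroup G} : cj g A ≤ B ↔ A ≤ cj g⁻¹ B := by
  rw [← cj_le_cj (g := g⁻¹), cj_cj, inv_mul_cancel, cj_one]

theorem le_cj_iff {g : G} {A B : Subgroup G} : A ≤ cj g B ↔ cj g⁻¹ A ≤ B := by
  rw [cj_le_iff, inv_inv]

theorem cj_inj {g : G} {A B : Subgroup G} : cj g A = cj g B ↔ A = B :=
  ⟨fun h => le_antisymm (cj_le_cj.1 h.le) (cj_le_cj.1 h.ge), fun h => h ▸ rfl⟩

theorem cj_eq_iff {g : G} {B : Subgroup G} : cj g B = B ↔ g ∈ normalizer (B : Set G) := by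
  constructor
  · intro h
    rw [mem_normalizer_iff]
    intro x
    constructor
    · intro hx
      rw [← h]
      exact conj_mem_cj hx
    · intro hx
      have h1 : g * x * g⁻¹ ∈ cj g B := h.symm ▸ hx
      rw [mem_cj] at h1
      have : g⁻¹ * (g * x * g⁻¹) * g = x := by group
      rwa [this] at h1
  · intro h
    ext x
    rw [mem_cj]
    have h1 := (mem_normalizer_iff.1 h) (g⁻¹ * x * g)
    have h2 : g * (g⁻¹ * x * g) * g⁻¹ = x := by group
    rwa [h2] at h1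

theorem cj_normalizer (g : G) (B : Subgroup G) :
    cj g (normalizer (B : Set G)) = normalizer ((cj g B : Subgroup G) : Set G) := by
  ext x
  rw [mem_cj, ← cj_eq_iff, ← cj_eq_iff, cj_cj, ← cj_inj (g := g), cj_cj]
  have : g * (g⁻¹ * x * g) = x * g := by group
  rw [this]

theorem cj_centralizer (g : G) (B : Subgroup G) :
    cj g (centralizer (B : Set G)) = centralizer ((cj g B : Subgroup G) : Set G) := by
  ext x
  rw [mem_cj, mem_centralizer_iff, mem_centralizer_iff]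
  constructor
  · intro h y hy
    have hy' : y ∈ cj g B := hy
    rw [mem_cj] at hy'
    have h1 := congrArg (fun t => g * t * g⁻¹) (h _ hy')
    simpa [mul_assoc] using h1
  · intro h y hy
    have hy' : y ∈ B := hy
    have h1 := congrArg (fun t => g⁻¹ * t * g) (h _ (conj_mem_cj (g := g) hy'))
    simpa [mul_assoc] using h1

theorem cj_inf (g : G) (A B : Subgroup G) : cj g (A ⊓ B) = cj g A ⊓ cj g B := by
  ext x
  rw [mem_cj, mem_inf, mem_inf, mem_cj, mem_cj]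

theorem cj_bot (g : G) : cj g (⊥ : Subgroup G) = ⊥ := by
  ext x
  rw [mem_cj, mem_bot, mem_bot]
  constructor
  · intro h
    have : x = g * (g⁻¹ * x * g) * g⁻¹ := by group
    rw [this, h]; group
  · rintro rfl
    group

theorem card_cj (g : G) (H : Subgroup G) : Nat.card (cj g H) = Nat.card H :=
  Nat.card_congr (Subgroup.equivSMul (MulAut.conj g) H).toEquiv.symm

theorem IsCj.cj {Z X : Subgroup G} (h : IsCj Z X) (g : G) : IsCj Z (cj g X) := by
  obtain ⟨x, rfl⟩ := h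
  exact ⟨g * x, cj_cj _ _ _⟩

theorem isCj_cj {Z X : Subgroup G} {g : G} : IsCj (PT.cj g Z) X ↔ IsCj Z X := by
  constructor
  · rintro ⟨x, rfl⟩
    exact ⟨x * g, cj_cj _ _ _⟩
  · rintro ⟨x, rfl⟩
    exact ⟨x * g⁻¹, by rw [cj_cj, inv_mul_cancel_right]⟩

theorem le_ws {V X L : Subgroup G} (hL : IsCj V L) (hX : X ≤ L) : L ≤ ws V X := le_sSup ⟨hL, hX⟩

theorem ws_le {V X A : Subgroup G} (h : ∀ L, IsCj V L → X ≤ L → L ≤ A) : ws V X ≤ A :=
  sSup_le fun L hL => h L hL.1 hL.2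

theorem ws_cj (V X : Subgroup G) (g : G) : ws V (cj g X) = cj g (ws V X) := by
  apply le_antisymm
  · refine ws_le fun L hL hX => ?_
    rw [le_cj_iff]
    exact le_ws (hL.cj _) (cj_le_iff.1 hX |> fun h => by
      rw [le_cj_iff, inv_inv]
      exact hX)
  · rw [cj_le_iff]
    refine ws_le fun L hL hX => ?_
    rw [le_cj_iff, inv_inv]
    exact le_ws (hL.cj _) (cj_le_cj.2 hX)

theorem ws_cj_left (V X : Subgroup G) (g : G) : ws (cj g V) X = ws V X := by
  unfold ws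
  congr 1
  ext L
  rw [Set.mem_ofPred_eq, Set.mem_ofPred_eq, isCj_cj]

theorem kx_cj_left (V X : Subgroup G) (g : G) : kx (cj g V) X = kx V X := by
  ext x
  rw [mem_kx, mem_kx, ws_cj_left]

theorem kx_cj (V X : Subgroup G) (g : G) : kx V (cj g X) = cj g (kx V X) := by
  ext x
  rw [mem_cj, mem_kx, mem_kx, ws_cj]
  constructor
  · rintro ⟨h1, h2⟩
    refine ⟨fun y hy => ?_, fun w hw => ?_⟩
    · have h3 := congrArg (fun t => g⁻¹ * t * g) (h1 _ (conj_mem_cj (g := g) hy))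
      simpa [mul_assoc] using h3
    · have h3 := h2 _ (conj_mem_cj (g := g) hw)
      rw [mem_cj] at h3
      have e : g⁻¹ * (x * (g * w * g⁻¹) * x⁻¹ * (g * w * g⁻¹)⁻¹) * g =
        g⁻¹ * x * g * w * (g⁻¹ * x * g)⁻¹ * w⁻¹ := by group
      rwa [e] at h3
  · rintro ⟨h1, h2⟩
    refine ⟨fun y hy => ?_, fun w hw => ?_⟩
    · have h3 := congrArg (fun t => g * t * g⁻¹) (h1 _ (mem_cj.1 hy))
      simpa [mul_assoc] using h3
    · rw [mem_cj]
      have h3 := h2 _ (mem_cj.1 hw)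
      have e : g⁻¹ * (x * w * x⁻¹ * w⁻¹) * g =
        g⁻¹ * x * g * (g⁻¹ * w * g) * (g⁻¹ * x * g)⁻¹ * (g⁻¹ * w * g)⁻¹ := by group
      rwa [e]

/-- `N_G(X)` normalises `ws V X`. -/
theorem normalizer_le_ws (V X : Subgroup G) : normalizer (X : Set G) ≤ normalizer ((ws V X : Subgroup G) : Set G) := by
  intro g hg
  rw [← cj_eq_iff] at hg ⊢
  rw [← ws_cj, hg]

/-- `N_G(X)` normalises `kx V X`. -/
theorem normalizer_le_kx (V X : Subgroup G) : normalizer (X : Set G) ≤ normalizer ((kx V X : Subgroup G) : Set G) := by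
  intro g hg
  rw [← cj_eq_iff] at hg ⊢
  rw [← kx_cj, hg]

/-- `kx V X` normalises every subgroup between `X` and `ws V X`. -/
theorem kx_normalizes {V X U : Subgroup G} (h1 : X ≤ U) (h2 : U ≤ ws V X) : kx V X ≤ normalizer (U : Set G) := by
  have key : ∀ g ∈ kx V X, ∀ u ∈ U, g * u * g⁻¹ ∈ U := by
    intro g hg u hu
    have h3 := (mem_kx.1 hg).2 u (h2 hu)
    have e : g * u * g⁻¹ = g * u * g⁻¹ * u⁻¹ * u := by group
    rw [e]
    exact U.mul_mem (h1 h3) hu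
  intro g hg
  rw [mem_normalizer_iff]
  intro u
  refine ⟨key g hg u, fun h => ?_⟩
  have h3 := key g⁻¹ (inv_mem hg) _ h
  have e : g⁻¹ * (g * u * g⁻¹) * g⁻¹⁻¹ = u := by group
  rwa [e] at h3

/-! ### Sylow subgroups -/

theorem coe_smul [Finite G] (S : Sylow 2 G) (g : G) : ((g • S : Sylow 2 G) : Subgroup G) = cj g S := rfl

/-- Two Sylow subgroups of `G` inside `H` are conjugate in `H`. -/
theorem exists_conj [Finite G] {S T : Sylow 2 G} {H : Subgroup G} (hS : (S : Subgroup G) ≤ H)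
    (hT : (T : Subgroup G) ≤ H) : ∃ h ∈ H, cj h (S : Subgroup G) = T := by
  have : Fact (Nat.Prime 2) := ⟨Nat.prime_two⟩
  obtain ⟨h, hh⟩ := MulAction.exists_smul_eq H (S.subtype hS) (T.subtype hT)
  refine ⟨h, h.2, ?_⟩
  ext x
  rw [mem_cj]
  have h1 : ∀ y : H, y ∈ (T.subtype hT : Sylow 2 H) ↔ h⁻¹ * y * h ∈ (S.subtype hS : Sylow 2 H) := by
    intro y
    rw [← hh]
    exact mem_conj (H := ((S.subtype hS : Sylow 2 H) : Subgroup H))
  constructor
  · intro hx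
    have hxH : x ∈ H := by
      have h2 := H.mul_mem (H.mul_mem h.2 (hS hx)) (H.inv_mem h.2)
      have e : (h : G) * ((h : G)⁻¹ * x * h) * (h : G)⁻¹ = x := by group
      rwa [e] at h2
    exact (h1 ⟨x, hxH⟩).2 (mem_subgroupOf.2 hx)
  · intro hx
    exact mem_subgroupOf.1 ((h1 ⟨x, hT hx⟩).1 (mem_subgroupOf.2 hx))

/-- A 2-subgroup of `H ≥ S` is contained in an `H`-conjugate of `S`. -/
theorem exists_le_conj [Finite G] {S : Sylow 2 G} {H B : Subgroup G} (hS : (S : Subgroup G) ≤ H)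
    (hB : IsPGroup 2 B) (hBH : B ≤ H) : ∃ h ∈ H, B ≤ cj h (S : Subgroup G) := by
  have : Fact (Nat.Prime 2) := ⟨Nat.prime_two⟩
  have hB' : IsPGroup 2 (B.subgroupOf H) := hB.comap_subtype
  obtain ⟨T, hT⟩ := hB'.exists_le_sylow
  obtain ⟨h, hh⟩ := MulAction.exists_smul_eq H (S.subtype hS) T
  refine ⟨h, h.2, fun x hx => ?_⟩
  rw [mem_cj]
  have h1 : (⟨x, hBH hx⟩ : H) ∈ (T : Subgroup H) := hT (mem_subgroupOf.2 hx)
  rw [← hh] at h1
  exact mem_subgroupOf.1 (mem_conj.1 h1)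

/-- 2-element -/
def TwoEl (g : G) : Prop := ∃ n : ℕ, g ^ 2 ^ n = 1

theorem TwoEl.isPGroup {g : G} (h : TwoEl g) : IsPGroup 2 (zpowers g) := by
  obtain ⟨n, hn⟩ := h
  rintro ⟨_, k, rfl⟩
  refine ⟨n, Subtype.ext ?_⟩
  show (g ^ k) ^ 2 ^ n = 1
  rw [← zpow_natCast, ← zpow_mul, mul_comm, zpow_mul, zpow_natCast, hn, one_zpow]

theorem twoEl_of_isPGroup {B : Subgroup G} (h : IsPGroup 2 B) {b : G} (hb : b ∈ B) : TwoEl b := by
  obtain ⟨n, hn⟩ := h ⟨b, hb⟩
  exact ⟨n, congrArg Subtype.val hn⟩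

theorem TwoEl.conj {g : G} (h : TwoEl g) (x : G) : TwoEl (x * g * x⁻¹) := by
  obtain ⟨n, hn⟩ := h
  exact ⟨n, by rw [conj_pow, hn]; group⟩

/-- Every element has an odd power which is a 2-element. -/
theorem exists_odd_pow [Finite G] (g : G) : ∃ m : ℕ, Odd m ∧ TwoEl (g ^ m) := by
  obtain ⟨a, m, hm, h⟩ := Nat.exists_eq_two_pow_mul_odd (orderOf_pos g).ne'
  refine ⟨m, hm, a, ?_⟩
  rw [← pow_mul, mul_comm, ← h, pow_orderOf_eq_one]

/-! ### The hypotheses -/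

/-- **The hypotheses** (natural lines). -/
structure PL [Finite G] (S : Sylow 2 G) (P V Z : Subgroup G) : Prop where
  SP : (S : Subgroup G) ≤ P
  PN : P ≤ normalizer (V : Set G)
  ZV : Z ≤ V
  VS : V ≤ (S : Subgroup G)
  Zne : Z ≠ ⊥
  /-- `Z` is central in `S` -/
  cen : ∀ z ∈ Z, ∀ s ∈ (S : Subgroup G), s * z = z * s
  /-- `Ω₁(Z(S)) ≤ Z` -/
  omega : ∀ x ∈ (S : Subgroup G), x * x = 1 → (∀ s ∈ (S : Subgroup G), s * x = x * s) → x ∈ Z
  Vsq : ∀ v ∈ V, v * v = 1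
  part : ∀ v ∈ V, v ≠ 1 → ∃ p ∈ P, v ∈ cj p Z
  act : ∀ s ∈ (S : Subgroup G), ∀ v ∈ V, s * v * s⁻¹ * v⁻¹ ∈ Z
  free : ∀ s ∈ (S : Subgroup G), ∀ v ∈ V, v ∉ Z → s * v = v * s → ∀ v' ∈ V, s * v' = v' * s
  full : ∀ v ∈ V, v ∉ Z → ∀ z ∈ Z, ∃ s ∈ (S : Subgroup G), s * v * s⁻¹ * v⁻¹ = z
  torus : ∀ s ∈ (S : Subgroup G), ∀ t ∈ (S : Subgroup G), s ∉ centralizer (V : Set G) →
    t ∉ centralizer (V : Set G) → ∃ k ∈ P, k ∈ normalizer (Z : Set G) ∧ k * s * k⁻¹ * t⁻¹ ∈ centralizer (V : Set G)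
  card : Nat.card V = Nat.card Z * Nat.card Z
  Wcomm : ws V Z ≤ centralizer ((ws V Z : Subgroup G) : Set G)
  ti : ∀ z ∈ Z, z ≠ 1 → ∀ g : G, g * z = z * g → g ∈ normalizer (Z : Set G)

namespace PL

variable [Finite G] {S : Sylow 2 G} {P V Z : Subgroup G} (h : PL S P V Z)
include h

/-- Everything is invariant under conjugation. -/
theorem conj (g : G) : PL (g • S) (cj g P) (cj g V) (cj g Z) where
  SP := cj_le_cj.2 h.SP
  PN := by rw [← cj_normalizer]; exact cj_le_cj.2 h.PN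
  ZV := cj_le_cj.2 h.ZV
  VS := cj_le_cj.2 h.VS
  Zne := by
    intro h1
    exact h.Zne (cj_inj.1 (h1.trans (cj_bot g).symm))
  cen := by
    intro z hz s hs
    have h1 := h.cen _ (mem_cj.1 hz) _ (mem_cj.1 hs)
    have h2 := congrArg (fun t => g * t * g⁻¹) h1
    simpa [mul_assoc] using h2
  omega := by
    intro x hx hx2 hxs
    rw [mem_cj]
    refine h.omega _ (mem_cj.1 hx) ?_ fun s hs => ?_
    · calc g⁻¹ * x * g * (g⁻¹ * x * g) = g⁻¹ * (x * x) * g := by group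
        _ = 1 := by rw [hx2]; group
    · have h1 := hxs _ (conj_mem_cj (g := g) hs)
      have h2 := congrArg (fun t => g⁻¹ * t * g) h1
      simpa [mul_assoc] using h2
  Vsq := by
    intro v hv
    have h1 := h.Vsq _ (mem_cj.1 hv)
    have h2 := congrArg (fun t => g * t * g⁻¹) h1
    simpa [mul_assoc] using h2
  part := by
    intro v hv hv1
    obtain ⟨p, hp, hvp⟩ := h.part _ (mem_cj.1 hv) (fun e => hv1 (by
      have h2 := congrArg (fun t => g * t * g⁻¹) e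
      simpa [mul_assoc] using h2))
    refine ⟨g * p * g⁻¹, conj_mem_cj hp, ?_⟩
    rw [cj_cj, inv_mul_cancel_right, ← cj_cj, mem_cj]
    exact hvp
  act := by
    intro s hs v hv
    have h1 := h.act _ (mem_cj.1 hs) _ (mem_cj.1 hv)
    rw [mem_cj]
    have e : g⁻¹ * (s * v * s⁻¹ * v⁻¹) * g =
      g⁻¹ * s * g * (g⁻¹ * v * g) * (g⁻¹ * s * g)⁻¹ * (g⁻¹ * v * g)⁻¹ := by group
    rwa [e]
  free := by
    intro s hs v hv hvZ hsv v' hv'
    have h1 := h.free _ (mem_cj.1 hs) _ (mem_cj.1 hv) (fun e => hvZ (mem_cj.2 e)) (by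
      have h2 := congrArg (fun t => g⁻¹ * t * g) hsv
      simpa [mul_assoc] using h2) _ (mem_cj.1 hv')
    have h2 := congrArg (fun t => g * t * g⁻¹) h1
    simpa [mul_assoc] using h2
  full := by
    intro v hv hvZ z hz
    obtain ⟨s, hs, hsz⟩ := h.full _ (mem_cj.1 hv) (fun e => hvZ (mem_cj.2 e)) _ (mem_cj.1 hz)
    refine ⟨g * s * g⁻¹, conj_mem_cj hs, ?_⟩
    have h2 := congrArg (fun t => g * t * g⁻¹) hsz
    simpa [mul_assoc] using h2
  torus := by
    intro s hs t ht hs1 ht1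
    rw [← cj_centralizer, mem_cj] at hs1 ht1
    obtain ⟨k, hk, hkZ, hk2⟩ := h.torus _ (mem_cj.1 hs) _ (mem_cj.1 ht) hs1 ht1
    refine ⟨g * k * g⁻¹, conj_mem_cj hk, ?_, ?_⟩
    · rw [← cj_normalizer]; exact conj_mem_cj hkZ
    · rw [← cj_centralizer, mem_cj]
      have e : g⁻¹ * (g * k * g⁻¹ * s * (g * k * g⁻¹)⁻¹ * t⁻¹) * g =
        k * (g⁻¹ * s * g) * k⁻¹ * (g⁻¹ * t * g)⁻¹ := by group
      rwa [e]
  card := by rw [card_cj, card_cj]; exact h.card
  Wcomm := by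
    rw [ws_cj, ws_cj_left]
    exact conj_le_centralizer h.Wcomm
  ti := by
    intro z hz hz1 x hx
    rw [← cj_normalizer, mem_cj]
    refine h.ti _ (mem_cj.1 hz) (fun e => hz1 ?_) _ ?_
    · have h2 := congrArg (fun t => g * t * g⁻¹) e
      simpa [mul_assoc] using h2
    · have h2 := congrArg (fun t => g⁻¹ * t * g) hx
      simpa [mul_assoc] using h2

/-- The same with another point on `V`. -/
theorem pt {p : G} (hp : p ∈ P) : PL (p • S) P V (cj p Z) := by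
  have h1 := h.conj p
  have h2 : cj p P = P := conj_self hp
  have h3 : cj p V = V := cj_eq_iff.2 (h.PN hp)
  rwa [h2, h3] at h1

theorem Vcomm {v w : G} (hv : v ∈ V) (hw : w ∈ V) : v * w = w * v := by
  have h1 := h.Vsq v hv
  have h2 := h.Vsq w hw
  have h3 := h.Vsq (v * w) (V.mul_mem hv hw)
  have hv' : v⁻¹ = v := inv_eq_of_mul_eq_one_left h1
  have hw' : w⁻¹ = w := inv_eq_of_mul_eq_one_left h2
  have h3' : (v * w)⁻¹ = v * w := inv_eq_of_mul_eq_one_left h3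
  rw [mul_inv_rev, hv', hw'] at h3'
  exact h3'.symm

/-- `S ≤ C_G(Z)` -/
theorem S_le : (S : Subgroup G) ≤ centralizer (Z : Set G) := by
  intro s hs
  rw [mem_centralizer_iff]
  exact fun z hz => (h.cen z hz s hs).symm

theorem S_le_N : (S : Subgroup G) ≤ normalizer (Z : Set G) := h.S_le.trans (centralizer_le_normalizer _)

/-- **(T2)** points are TI. -/
theorem pt_eq {g z : G} (hz : z ∈ Z) (hz' : z ∈ cj g Z) (hz1 : z ≠ 1) : cj g Z = Z := by
  have h1 : (S : Subgroup G) ≤ normalizer ((cj g Z : Subgroup G) : Set G) := by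
    intro s hs
    exact (h.conj g).ti z hz' hz1 s (h.cen z hz s hs)
  have h2 : ((g • S : Sylow 2 G) : Subgroup G) ≤ normalizer ((cj g Z : Subgroup G) : Set G) := (h.conj g).S_le_N
  obtain ⟨m, hm, hmS⟩ := exists_conj h2 h1
  -- `cj m (cj g Z) = cj g Z`, and it is the `Z` of `S`
  have h3 := (h.conj g).conj m
  rw [cj_eq_iff.2 hm] at h3
  have h4 : ((m • g • S : Sylow 2 G) : Subgroup G) = S := hmS
  apply le_antisymm
  · intro x hx
    have hxS : x ∈ (S : Subgroup G) := by rw [← h4]; exact (h3.ZV.trans h3.VS) hx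
    exact h.omega x hxS (h3.Vsq x (h3.ZV hx)) fun s hs => h3.cen x hx s (by rw [h4]; exact hs)
  · intro x hx
    refine h3.omega x (by rw [h4]; exact h.VS (h.ZV hx)) (h.Vsq x (h.ZV hx)) fun s hs => h.cen x hx s ?_
    rw [h4] at hs
    exact hs

/-- **(T2)**, for two points. -/
theorem pts_eq {X Y : Subgroup G} (hX : IsCj Z X) (hY : IsCj Z Y) {z : G} (hz : z ∈ X) (hz' : z ∈ Y) (hz1 : z ≠ 1) :
    X = Y := by
  obtain ⟨x, rfl⟩ := hX
  obtain ⟨y, rfl⟩ := hY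
  have h1 := (h.conj x).pt_eq (g := y * x⁻¹) hz (by rw [cj_cj, inv_mul_cancel_right]; exact hz') hz1
  rw [cj_cj, inv_mul_cancel_right] at h1
  exact h1.symm

theorem pts_inf {X Y : Subgroup G} (hX : IsCj Z X) (hY : IsCj Z Y) (hne : X ≠ Y) : X ⊓ Y = ⊥ := by
  rw [eq_bot_iff]
  intro z hz
  rw [mem_bot]
  by_contra h1
  exact hne (h.pts_eq hX hY hz.1 hz.2 h1)

/-- 2-elements normalising `Z` centralise `Z`. -/
theorem two_cent {b : G} (hb : TwoEl b) (hbN : b ∈ normalizer (Z : Set G)) : ∀ z ∈ Z, b * z = z * b := by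
  obtain ⟨m, hm, hbm⟩ := exists_le_conj h.S_le_N hb.isPGroup ((zpowers_le).2 hbN)
  have h1 : b ∈ cj m (S : Subgroup G) := hbm (mem_zpowers b)
  intro z hz
  have h2 : z ∈ cj m Z := by rw [cj_eq_iff.2 hm]; exact hz
  exact (h.conj m).cen z h2 b h1

/-- **(T3)** a 2-element commuting with one element of `Z#` centralises `Z`. -/
theorem two_comm {b z : G} (hb : TwoEl b) (hz : z ∈ Z) (hz1 : z ≠ 1) (hbz : b * z = z * b) :
    ∀ x ∈ Z, b * x = x * b :=
  h.two_cent hb (h.ti z hz hz1 b hbz)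

/-- **(T3)** for any point. -/
theorem two_comm' {X : Subgroup G} (hX : IsCj Z X) {b z : G} (hb : TwoEl b) (hz : z ∈ X) (hz1 : z ≠ 1)
    (hbz : b * z = z * b) : ∀ x ∈ X, b * x = x * b := by
  obtain ⟨g, rfl⟩ := hX
  exact (h.conj g).two_comm hb hz hz1 hbz

/-- two points commute if two nontrivial elements of them commute -/
theorem pts_comm {X Y : Subgroup G} (hX : IsCj Z X) (hY : IsCj Z Y) {x y : G} (hx : x ∈ X) (hy : y ∈ Y)
    (hx1 : x ≠ 1) (hy1 : y ≠ 1) (hxy : x * y = y * x) : X ≤ centralizer (Y : Set G) := by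
  have hsq : ∀ {X : Subgroup G}, IsCj Z X → ∀ x ∈ X, TwoEl x := by
    rintro _ ⟨g, rfl⟩ x hx
    exact ⟨1, by rw [pow_one, pow_two]; exact (h.conj g).Vsq x ((h.conj g).ZV hx)⟩
  intro x' hx'
  rw [mem_centralizer_iff]
  intro y' hy'
  have h1 := h.two_comm' hY (hsq hX x hx) hy hy1 hxy y' hy'
  exact h.two_comm' hX (hsq hY y' hy') hx hx1 h1.symm x' hx'

/-- the points on `V` are the conjugates of `Z` under `P` -/
theorem exists_pt {X : Subgroup G} (hX : IsCj Z X) (hXV : X ≤ V) : ∃ p ∈ P, X = cj p Z := by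
  obtain ⟨g, rfl⟩ := hX
  obtain ⟨z, hz, hz1⟩ : ∃ z ∈ cj g Z, z ≠ 1 := by
    by_contra hcon
    push Not at hcon
    exact (h.conj g).Zne ((eq_bot_iff_forall _).2 hcon)
  obtain ⟨p, hp, hzp⟩ := h.part z (hXV hz) hz1
  exact ⟨p, hp, h.pts_eq ⟨g, rfl⟩ ⟨p, rfl⟩ hz hzp hz1⟩

theorem pt_le {p : G} (hp : p ∈ P) : cj p Z ≤ V := (h.pt hp).ZV

/-- every line is contained in the `ws` of its points -/
theorem V_le_ws {X : Subgroup G} (hX : X ≤ V) : V ≤ ws V X := le_ws ⟨1, (cj_one V).symm⟩ hX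

theorem Z_le_ws : Z ≤ ws V Z := h.ZV.trans (h.V_le_ws h.ZV)

/-- `ws V X` is abelian for every point `X`. -/
theorem ws_comm {X : Subgroup G} (hX : IsCj Z X) : ws V X ≤ centralizer ((ws V X : Subgroup G) : Set G) := by
  obtain ⟨g, rfl⟩ := hX
  have h1 := (h.conj g).Wcomm
  rwa [ws_cj_left] at h1

theorem ws_sq : ∀ w ∈ ws V Z, w * w = 1 := by
  let E : Subgroup G :=
    { carrier := {x | x ∈ ws V Z ∧ x * x = 1}
      one_mem' := ⟨one_mem _, one_mul 1⟩
      mul_mem' := by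
        rintro x y ⟨hx, hx2⟩ ⟨hy, hy2⟩
        refine ⟨mul_mem hx hy, ?_⟩
        have h1 : y * x = x * y := mem_centralizer_iff.1 (h.Wcomm hx) y hy
        calc x * y * (x * y) = x * (y * x) * y := by group
          _ = x * (x * y) * y := by rw [h1]
          _ = x * x * (y * y) := by group
          _ = 1 := by rw [hx2, hy2, one_mul]
      inv_mem' := by
        rintro x ⟨hx, hx2⟩
        refine ⟨inv_mem hx, ?_⟩
        rw [← mul_inv_rev, hx2, inv_one] }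
  have h1 : ws V Z ≤ E := by
    refine ws_le fun L hL hZL v hv => ⟨le_ws hL hZL hv, ?_⟩
    obtain ⟨g, rfl⟩ := hL
    exact (h.conj g).Vsq v hv
  exact fun w hw => (h1 hw).2

/-- `ws V Z ≤ S` -/
theorem ws_le_S : ws V Z ≤ (S : Subgroup G) := by
  have : Fact (Nat.Prime 2) := ⟨Nat.prime_two⟩
  have hW : IsPGroup 2 (ws V Z) := fun w => ⟨1, by
    rw [pow_one, pow_two]; exact Subtype.ext (h.ws_sq w w.2)⟩
  have hSN : (S : Subgroup G) ≤ normalizer ((ws V Z : Subgroup G) : Set G) := h.S_le_N.trans (normalizer_le_ws V Z)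
  have h1 : IsPGroup 2 ((S : Subgroup G) ⊔ ws V Z : Subgroup G) := S.isPGroup'.to_sup_of_normal_right' hW hSN
  have h2 := S.is_maximal' h1 le_sup_left
  rw [← h2]
  exact le_sup_right

end PL

end Cfsg.Agent.Omega.NO3S.PT
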