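import Cfsg.Agent.Omega.NO3S.Level.Lim
import Cfsg.Agent.Omega.NO3S.Fld.GeoR
import Cfsg.Agent.Omega.NO3S.FF
import Cfsg.Agent.Omega.NO3S.ThmB.Main

/-!
# Leaf NO-3S: FF-lines at any level (helper781 #16560)

* `LevSt S P` : the stage of `P`: `J(S) ≰ O₂(P)`, or there is `n` such that the `n`-th level `lev n`
  (`Level/Basic.lean`; `lev 0 = J(S)`, `lev (n + 1) = ⟨best offenders of S on Ω₁(Z(lev n))⟩ C_S(Ω₁(Z(lev n)))`) lies in
  `O₂(R)` for **all** `R ∈ P*(S)`, and `lev (n + 1) ≰ O₂(P)`;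
* `HypF S P` : `HypN S P` and `|V_R| ≠ 4` for all `R ∈ P**`; `HypL S P` : `HypF S P` and `LevSt S P`;
* `HypL.ffMod`, `HypL.concl` : `V_P` is an FF-module (no over-offender; natural / even-subset blocks, module form
  `FFThm.ConclM`);
* `HypL.exists_of` : in the case `HypC`, if some `P ∈ P**` has `V_P ≰ V^!(S)`, then some `P ∈ P**` satisfies `HypL S P`
  (THEOREM B, `ThmB/Main.lean`: helper555, 879, 365, 922, 134);
* `FullK V R` : `[w, K_R] = R` for all `w ∈ W_R - R` (`N_R = R` and `K_R` full), `FullK.ntr`, `fullK_of_ntr`;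
* `FrB F S P B R` : the `(R, B)`-frame of helper973 (#16714) for a natural line `V_P`: `R` an `F`-line of `V_P` normalised
  by `S`, `B = C_S(R)`; `FrB.geo`, `FrB.exists_crit` : the geometry of the points `R^g` (`Geo B R (N_G(R)) {P}`) and a
  critical pair.

`P** =` the members `P` of `P*(S)` with `⟨P, C_G(Z)⟩` nonlocal.
-/

set_option autoImplicit false

namespace Cfsg.Agent.Omega.NO3S

open Subgroup Cfsg Cfsg.Agent.ZN Cfsg.Agent.Omega.MinPar Cfsg.Agent.Omega.Frame Cfsg.Agent.Omega.FrameNOFF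
open Cfsg.Agent.Omega.FrameFF (cv Single)
open Cfsg.Agent.Omega.NoFF.Lines
open Cfsg.Agent.Omega.NO3S.Level

universe u

/-- `P ∈ P**`. -/
structure PSS {G : Type u} [Group G] (S P : Subgroup G) : Prop where
  par : IsParS S P
  nonLoc : NonLoc P (CZ S)

/-- The stage of `P`: `J(S) ≰ O₂(P)`, or there is `n` such that `lev S n ≤ O₂(R)` for **all** `R ∈ P*(S)` (THEOREM B)
and `lev S (n + 1) ≰ O₂(P)`. -/
def LevSt {G : Type u} [Group G] [Finite G] (S P : Subgroup G) : Prop :=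
  ¬ jj S ≤ o2 P ∨ ∃ n, (∀ R, IsParS S R → lev S n ≤ o2 R) ∧ ¬ lev S (n + 1) ≤ o2 P

/-- `HypN` and no `V_R` of order 4, `R ∈ P**`: all the ends over a frame (`FrB`, ..) use, no stage. -/
structure HypF {G : Type u} [Group G] [Finite G] (S : Sylow 2 G) (P : Subgroup G) : Prop extends HypN S P where
  four : ∀ R : Subgroup G, PSS (S : Subgroup G) R → Nat.card (zl (S : Subgroup G) R) ≠ 4

/-- **The hypotheses of the FF-lines, at any level.** -/
structure HypL {G : Type u} [Group G] [Finite G] (S : Sylow 2 G) (P : Subgroup G) : Prop extends HypF S P where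
  stage : LevSt (S : Subgroup G) P

section facts

variable {G : Type u} [Group G] [Finite G] {S : Sylow 2 G} {P : Subgroup G}

theorem Hyp.pss (h : Hyp S P) : PSS (S : Subgroup G) P := ⟨h.star, h.nonLoc⟩

/-- `HypJ` is stage `-1`. -/
theorem HypJ.toL (h : HypJ S P)
    (h4 : ∀ R : Subgroup G, PSS (S : Subgroup G) R → Nat.card (zl (S : Subgroup G) R) ≠ 4) : HypL S P where
  toHypF := { toHypN := h.toHypN, four := h4 }
  stage := Or.inl h.jnot

/-- Stage `n`: a best offender on `Ω₁(Z(lev n))` which is not in `O₂(P)`. -/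
theorem exists_BO (hG : IsCharacteristicTwoType G) (hP : IsParS (S : Subgroup G) P) {n : ℕ}
    (h1 : lev (S : Subgroup G) n ≤ o2 P) (h2 : ¬ lev (S : Subgroup G) (n + 1) ≤ o2 P) :
    ∃ A ∈ BO (S : Subgroup G) (lev (S : Subgroup G) n), ¬ A ≤ o2 P := by
  by_contra hcon
  push Not at hcon
  apply h2
  show nxt (S : Subgroup G) (lev (S : Subgroup G) n) ≤ o2 P
  refine sup_le ?_ (sSup_le hcon)
  have h3 : zl (S : Subgroup G) P ≤ zc (lev (S : Subgroup G) n) :=
    (hP.isLoc.zl_le S hG).trans ((lev_isLev (S : Subgroup G) n).zc_o2_le h1 (hP.isLoc.o2_le S))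
  have h4 := IsParS.inf_centralizer S hG hP
  rw [← h4]
  exact inf_le_inf_left _ (centralizer_le h3)

/-- `V_P` is an FF-module. -/
theorem HypL.ffMod (h : HypL S P) : FFMod (S : Subgroup G) P := by
  rcases h.stage with hj | ⟨n, hn, hn1⟩
  · exact HypJ.ffMod ⟨h.toHypN, hj⟩
  · obtain ⟨A, hA, hAQ⟩ := exists_BO h.ctx.char2 h.star (hn P h.star) hn1
    exact ffMod_of_BO h.ctx.char2 h.star (lev_isLev _ n) (hn P h.star) hA hAQ

/-- **The FF theorem**: no over-offender, natural or even-subset blocks (module form). -/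
theorem HypL.concl (h : HypL S P) :
    FFThm.NoOverM (zl (S : Subgroup G) P) P ∧ FFThm.ConclM (S : Subgroup G) P :=
  h.toHyp.ff FF.Glob.ffthmM h.ffMod

/-- Some `P ∈ P**` has `V_P ≰ V^!(S)`: choose one of minimal stage. -/
theorem HypL.exists_of (h : HypC S)
    (hv : ∃ R : Subgroup G, PSS (S : Subgroup G) R ∧ ¬ zl (S : Subgroup G) R ≤ VB (S : Subgroup G)) :
    ∃ P, HypL S P := by
  have hex : ∃ n, ∃ R : Subgroup G, PSS (S : Subgroup G) R ∧ ¬ lev (S : Subgroup G) (n + 1) ≤ o2 R := by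
    obtain ⟨R, hR, hRv⟩ := hv
    rcases exists_lev h.ctx.char2 hR.par hRv with h1 | ⟨n, -, h2, -⟩
    · exact absurd (h.jle R hR.par hR.nonLoc) h1
    · exact ⟨n, R, hR, h2⟩
  classical
  obtain ⟨P, hP, hPn⟩ := Nat.find_spec hex
  have hle : ∀ R, PSS (S : Subgroup G) R → lev (S : Subgroup G) (Nat.find hex) ≤ o2 R := by
    intro Q hQ
    rcases Nat.eq_zero_or_pos (Nat.find hex) with h0 | h0
    · rw [h0]; exact h.jle Q hQ.par hQ.nonLoc
    · obtain ⟨m, hm⟩ := Nat.exists_eq_succ_of_ne_zero h0.ne'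
      have hmin := Nat.find_min hex (m := m) (by omega)
      push Not at hmin
      rw [hm]
      exact hmin Q hQ
  exact ⟨P, { toHypF := { toHypN := h.hypN hP.par hP.nonLoc, four := fun R hR => h.four R hR.par hR.nonLoc }
              stage := Or.inr ⟨_, ThmB.Main.hpar_hypC h hP.par hP.nonLoc (fun R h1 h2 => hle R ⟨h1, h2⟩) hPn, hPn⟩ }⟩

end facts

/-- **FULL**: `[w, K_R] = R` for all `w ∈ W_R - R`; `W_R` = the product of the lines through `R`, `K_R` = the kernel of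
`C_G(R)` on `W_R / R`. In the texts: "`N_p = p` and `K_p` is full". -/
def FullK {G : Type u} [Group G] (V R : Subgroup G) : Prop :=
  ∀ w ∈ PT.ws V R, w ∉ R → ∀ r ∈ R, ∃ k ∈ PT.kx V R, k * w * k⁻¹ * w⁻¹ = r

/-- `N_R = R` -/
theorem FullK.ntr {G : Type u} [Group G] {V R : Subgroup G} (h : FullK V R) (hR : R ≠ ⊥) {w : G}
    (hw : w ∈ PT.ws V R) (hc : ∀ k ∈ PT.kx V R, k * w = w * k) : w ∈ R := by
  by_contra hn
  obtain ⟨r, hr, hr1⟩ := R.bot_or_exists_ne_one.resolve_left hR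
  obtain ⟨k, hk, hkw⟩ := h w hw hn r hr
  apply hr1
  rw [← hkw, hc k hk]
  group

/-- `|R| = 2`: `N_R = R` is enough. -/
theorem fullK_of_ntr {G : Type u} [Group G] {V R : Subgroup G} (hR : Nat.card R = 2)
    (h : ∀ w ∈ PT.ws V R, (∀ k ∈ PT.kx V R, k * w = w * k) → w ∈ R) : FullK V R := by
  intro w hw hwR r hr
  have h2 : ¬ ∀ k ∈ PT.kx V R, k * w = w * k := fun hc => hwR (h w hw hc)
  by_cases hr1 : r = 1
  · exact ⟨1, one_mem _, by rw [hr1]; group⟩
  push Not at h2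
  obtain ⟨k, hk, hkw⟩ := h2
  refine ⟨k, hk, ?_⟩
  have h3 : k * w * k⁻¹ * w⁻¹ ∈ R := hk.2 w hw
  have h4 : k * w * k⁻¹ * w⁻¹ ≠ 1 := fun e => hkw (by
    calc k * w = (k * w * k⁻¹ * w⁻¹) * (w * k) := by group
      _ = w * k := by rw [e, one_mul])
  obtain ⟨y, -, hy⟩ := (Nat.card_eq_two_iff' (1 : R)).1 hR
  have e1 := hy ⟨_, h3⟩ (fun e => h4 (congrArg Subtype.val e))
  have e2 := hy ⟨r, hr⟩ (fun e => hr1 (congrArg Subtype.val e))
  exact congrArg Subtype.val (e1.trans e2.symm)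

/-- **The `(R, B)`-frame for a natural line** (helper973 #16714; `NO3S/PB/*.lean`): points are the conjugates of `R`. -/
structure FrB (F : Type) [Field F] {G : Type u} [Group G] [Finite G] (S : Sylow 2 G) (P B R : Subgroup G) :
    Prop where
  pb : PT.PB S B P (zl (S : Subgroup G) P) R
  om : PT.OmB B (zl (S : Subgroup G) P)
  card : Nat.card R = Nat.card F
  /-- LEMMA UNIQ over `B` (helper749, `Fld/UniqB.lean`, `Fld/UniqLev.lean`) -/
  uniq : ∀ Q : Subgroup G, IsParS (S : Subgroup G) Q →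
    Q ≤ normalizer (R : Set G) ∨ zl (S : Subgroup G) Q = zl (S : Subgroup G) P

section frame

variable {F : Type} [Field F] {G : Type u} [Group G] [Finite G] {S : Sylow 2 G} {P B R : Subgroup G}

/-- The geometry of the points `R^g`: the first argument is `B`. -/
theorem FrB.geo (h : FrB F S P B R) (hp : Hyp S P) : Geo B R (normalizer (R : Set G)) {P} := h.pb.geo hp

theorem FrB.exists_crit (h : FrB F S P B R) (hp : Hyp S P) :
    ∃ n, 1 ≤ n ∧ ∃ y, Crit R (normalizer (R : Set G)) {P} n 1 y := h.pb.exists_crit hp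

end frame

end Cfsg.Agent.Omega.NO3S
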