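import Mathlib
import Cfsg.Agent.ClassTwoFusion.Quad
import Cfsg.Agent.MinSimple.MinParabolic
import Cfsg.Agent.ZN.Map
import Cfsg.Agent.ZN.Facts
import Cfsg.Agent.Omega.MinPar

/-!
# No over-offenders: the K-free reduction to minimal parabolics (helper114, #12842)

`H` acts on the finite abelian group `V`, `ff V A = |A| |C_V(A)|`.

* `ff_mul_le`: `ff A * ff B ≤ ff (A ⊔ B) * ff (A ⊓ B)` for commuting subgroups `A`, `B`;
* `IsBest V Q A`: `A` is the smallest subgroup of `Q` with `ff V A` maximal (`Q` abelian): `exists_isBest`,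
  `IsBest.unique`, `IsBest.map_conj` (normalised by `N_H(Q)`), `IsBest.lt`;
* `IsBest.le_o2`: `A ≤ O₂(P)` for all minimal parabolics `P` over a 2-group `T ≥ A` moving `C_V(T)`, if `P` has no
  over-offender on the subgroup generated by the `P`-conjugates of `C_V(T)`;
* `IsBest.le_map_of_mem_xx`: `A ≤ T ^ y` for all `y` in the subgroup `xx V T` generated by them;
* `no_over`: if `H = ⟨N_H(T), the minimal parabolics over T moving C_V(T)⟩` there is no over-offender at all;
* `exact_alt`: a minimal exact offender lies in `O₂(P)` or meets it trivially, and then `V = ⟨C_V(T)^P⟩ C_V(A)`.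
-/

set_option autoImplicit false

namespace Cfsg.Agent.Omega.NO3S.ML

open Subgroup Cfsg Cfsg.Agent.ClassTwoFusion.Quad Cfsg.Agent.MinSimple.MinParabolic Cfsg.Agent.ZN

variable {H : Type*} [Group H] {V : Type*} [Group V] [MulDistribMulAction H V]

section card

variable {G : Type*} [Group G] [Finite G]

omit [Finite G] in
theorem card_mul_relIndex {A B : Subgroup G} (h : A ≤ B) : Nat.card A * A.relIndex B = Nat.card B := by
  rw [Subgroup.relIndex, ← Nat.card_congr (Subgroup.subgroupOfEquivOfLe h).toEquiv]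
  exact Subgroup.card_mul_index _

omit [Finite G] in
/-- `|K L| |K ∩ L| = |K| |L|` -/
theorem card_sup_mul {K L : Subgroup G} (h : L ≤ normalizer (K : Set G)) :
    Nat.card (K ⊔ L : Subgroup G) * Nat.card (K ⊓ L : Subgroup G) = Nat.card K * Nat.card L := by
  have hKn : (K.subgroupOf (K ⊔ L)).Normal :=
    normal_subgroupOf_of_le_normalizer (sup_le le_normalizer h)
  have h1 := relIndex_sup_left (L.subgroupOf (K ⊔ L)) (K.subgroupOf (K ⊔ L))
  rw [← Subgroup.subgroupOf_sup le_sup_left le_sup_right, Subgroup.subgroupOf_self,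
    Subgroup.relIndex_subgroupOf le_sup_right, relIndex_top_right] at h1
  have h2 : Nat.card K * K.relIndex L = Nat.card (K ⊔ L : Subgroup G) := by
    rw [← h1]
    exact card_mul_relIndex le_sup_left
  have h3 : Nat.card (K ⊓ L : Subgroup G) * K.relIndex L = Nat.card L := by
    rw [← Subgroup.inf_relIndex_right K L]
    exact card_mul_relIndex inf_le_right
  calc _ = Nat.card (K ⊔ L : Subgroup G) * Nat.card (K ⊓ L : Subgroup G) := rfl
    _ = Nat.card K * (Nat.card (K ⊓ L : Subgroup G) * K.relIndex L) := by rw [← h2]; ring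
    _ = _ := by rw [h3]

omit [Finite G] in
theorem card_sup_mul_of_comm {K L : Subgroup G} (h : ∀ a ∈ K, ∀ b ∈ L, a * b = b * a) :
    Nat.card (K ⊔ L : Subgroup G) * Nat.card (K ⊓ L : Subgroup G) = Nat.card K * Nat.card L := by
  refine card_sup_mul ((?_ : L ≤ centralizer (K : Set G)).trans (centralizer_le_normalizer _))
  intro b hb
  exact mem_centralizer_iff.mpr fun a ha => h a ha b hb

end card

/-- `|A| |C_V(A)|` -/
noncomputable def ff (V : Type*) [Group V] [MulDistribMulAction H V] (A : Subgroup H) : ℕ :=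
  Nat.card A * Nat.card (cv V (A : Set H))

/-- the elements of `H` fixing `U` pointwise -/
def fx (U : Subgroup V) : Subgroup H where
  carrier := {x | ∀ u ∈ U, x • u = u}
  one_mem' := fun u _ => one_smul H u
  mul_mem' := fun {x y} hx hy u hu => by rw [mul_smul, hy u hu, hx u hu]
  inv_mem' := fun {x} hx u hu => by
    nth_rewrite 1 [← hx u hu]
    rw [inv_smul_smul]

theorem mem_fx {U : Subgroup V} {x : H} : x ∈ fx U ↔ ∀ u ∈ U, x • u = u := Iff.rfl

theorem cv_sup (A B : Subgroup H) :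
    cv V ((A ⊔ B : Subgroup H) : Set H) = cv V (A : Set H) ⊓ cv V (B : Set H) := by
  apply le_antisymm
  · exact le_inf (cv_anti (SetLike.coe_subset_coe.mpr le_sup_left))
      (cv_anti (SetLike.coe_subset_coe.mpr le_sup_right))
  · rintro v ⟨h1, h2⟩ x hx
    have h3 : A ⊔ B ≤ MulAction.stabilizer H v := sup_le (fun a ha => h1 a ha) (fun b hb => h2 b hb)
    exact h3 hx

theorem cv_inf_le (A B : Subgroup H) :
    cv V (A : Set H) ⊔ cv V (B : Set H) ≤ cv V ((A ⊓ B : Subgroup H) : Set H) :=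
  sup_le (cv_anti (SetLike.coe_subset_coe.mpr inf_le_left))
    (cv_anti (SetLike.coe_subset_coe.mpr inf_le_right))

theorem ff_bot : ff V (⊥ : Subgroup H) = Nat.card V := by
  have h1 : cv V ((⊥ : Subgroup H) : Set H) = ⊤ := by
    rw [eq_top_iff]
    intro v _ x hx
    rw [SetLike.mem_coe, mem_bot] at hx
    rw [hx, one_smul]
  rw [ff, h1, card_bot, one_mul, card_top]

variable [Finite H] [Finite V]

omit [Finite H] in
/-- (1) -/
theorem ff_mul_le (hV : ∀ v w : V, v * w = w * v) {A B : Subgroup H}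
    (h : ∀ a ∈ A, ∀ b ∈ B, a * b = b * a) : ff V A * ff V B ≤ ff V (A ⊔ B) * ff V (A ⊓ B) := by
  have h1 := card_sup_mul_of_comm h
  have h2 := card_sup_mul_of_comm (K := cv V (A : Set H)) (L := cv V (B : Set H))
    (fun a _ b _ => hV a b)
  rw [← cv_sup] at h2
  have h3 : Nat.card (cv V (A : Set H) ⊔ cv V (B : Set H) : Subgroup V) ≤
      Nat.card (cv V ((A ⊓ B : Subgroup H) : Set H)) := card_le_of_le (cv_inf_le A B)
  unfold ff
  calc Nat.card A * Nat.card (cv V (A : Set H)) * (Nat.card B * Nat.card (cv V (B : Set H)))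
      = (Nat.card A * Nat.card B) * (Nat.card (cv V (A : Set H)) * Nat.card (cv V (B : Set H))) := by
        ring
    _ = (Nat.card (A ⊔ B : Subgroup H) * Nat.card (A ⊓ B : Subgroup H)) *
        (Nat.card (cv V (A : Set H) ⊔ cv V (B : Set H) : Subgroup V) *
          Nat.card (cv V ((A ⊔ B : Subgroup H) : Set H))) := by rw [h1, h2]
    _ ≤ (Nat.card (A ⊔ B : Subgroup H) * Nat.card (A ⊓ B : Subgroup H)) *
        (Nat.card (cv V ((A ⊓ B : Subgroup H) : Set H)) *
          Nat.card (cv V ((A ⊔ B : Subgroup H) : Set H))) := by gcongr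
    _ = _ := by ring

theorem ff_pos (A : Subgroup H) : 0 < ff V A := Nat.mul_pos Nat.card_pos Nat.card_pos

/-- `A` is the smallest subgroup of `Q` with `ff V A` maximal. -/
structure IsBest (V : Type*) [Group V] [MulDistribMulAction H V] (Q A : Subgroup H) : Prop where
  le : A ≤ Q
  max : ∀ B ≤ Q, ff V B ≤ ff V A
  min : ∀ B ≤ Q, ff V A ≤ ff V B → A ≤ B

theorem exists_isBest (hV : ∀ v w : V, v * w = w * v) {Q : Subgroup H}
    (hQ : ∀ a ∈ Q, ∀ b ∈ Q, a * b = b * a) : ∃ A, IsBest V Q A := by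
  have : Nonempty {A : Subgroup H // A ≤ Q} := ⟨⟨⊥, bot_le⟩⟩
  obtain ⟨⟨A₀, hA₀⟩, h0⟩ := Finite.exists_max (fun A : {A : Subgroup H // A ≤ Q} => ff V A.1)
  have : Nonempty {A : Subgroup H // A ≤ Q ∧ ff V A₀ ≤ ff V A} := ⟨⟨A₀, hA₀, le_rfl⟩⟩
  obtain ⟨⟨A, hA, hA1⟩, h1⟩ := Finite.exists_min
    (fun A : {A : Subgroup H // A ≤ Q ∧ ff V A₀ ≤ ff V A} => Nat.card A.1)
  have hmax : ∀ B ≤ Q, ff V B ≤ ff V A := fun B hB => (h0 ⟨B, hB⟩).trans hA1
  refine ⟨A, hA, hmax, fun B hB hAB => ?_⟩
  have h2 := ff_mul_le (V := V) hV (A := A) (B := B) (fun a ha b hb => hQ a (hA ha) b (hB hb))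
  have h3 : ff V A * ff V B ≤ ff V A * ff V (A ⊓ B) :=
    h2.trans (Nat.mul_le_mul_right _ (hmax _ (sup_le hA hB)))
  have h4 : ff V A ≤ ff V (A ⊓ B) := hAB.trans (Nat.le_of_mul_le_mul_left h3 (ff_pos A))
  have h5 := h1 ⟨A ⊓ B, inf_le_left.trans hA, hA1.trans h4⟩
  have h6 : A ⊓ B = A := Subgroup.eq_of_le_of_card_ge inf_le_left h5
  exact inf_eq_left.mp h6

namespace IsBest

variable {Q A : Subgroup H}

omit [Finite H] [Finite V] in
theorem unique {B : Subgroup H} (h : IsBest V Q A) (h' : IsBest V Q B) : A = B :=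
  le_antisymm (h.min B h'.le (h'.max A h.le)) (h'.min A h.le (h.max B h'.le))

omit [Finite H] [Finite V] in
/-- (2) -/
theorem lt (h : IsBest V Q A) {B : Subgroup H} (hB : B < A) : ff V B < ff V A := by
  by_contra hcon
  push Not at hcon
  exact hB.not_ge (h.min B (hB.le.trans h.le) hcon)

omit [Finite H] [Finite V] in
theorem ne_bot (h : IsBest V Q A) {E : Subgroup H} (hE : E ≤ Q) (h1 : Nat.card V < ff V E) :
    A ≠ ⊥ := by
  rintro rfl
  have := h.max E hE
  rw [ff_bot] at this
  omega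

end IsBest

omit [Finite H] [Finite V] in
theorem cv_map_conj (g : H) (A : Subgroup H) {v : V} :
    g • v ∈ cv V ((A.map (MulAut.conj g).toMonoidHom : Subgroup H) : Set H) ↔ v ∈ cv V (A : Set H) := by
  constructor
  · intro h a ha
    have h1 := h (g * a * g⁻¹) ⟨a, ha, rfl⟩
    rw [← mul_smul, inv_mul_cancel_right, mul_smul] at h1
    exact smul_left_cancel g h1
  · rintro h _ ⟨a, ha, rfl⟩
    change (g * a * g⁻¹) • g • v = g • v
    rw [← mul_smul, inv_mul_cancel_right, mul_smul, h a ha]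

omit [Finite H] [Finite V] in
theorem ff_map_conj (g : H) (A : Subgroup H) :
    ff V (A.map (MulAut.conj g).toMonoidHom) = ff V A := by
  have h1 : Nat.card (A.map (MulAut.conj g).toMonoidHom : Subgroup H) = Nat.card A :=
    card_map_of_injective (MulAut.conj g).injective
  have h2 : Nat.card (cv V ((A.map (MulAut.conj g).toMonoidHom : Subgroup H) : Set H)) =
      Nat.card (cv V (A : Set H)) := by
    have e : cv V ((A.map (MulAut.conj g).toMonoidHom : Subgroup H) : Set H) =
        (cv V (A : Set H)).map (MulDistribMulAction.toMulEquiv V g).toMonoidHom := by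
      ext v
      constructor
      · intro h3
        rw [← smul_inv_smul g v, cv_map_conj] at h3
        exact ⟨g⁻¹ • v, h3, smul_inv_smul g v⟩
      · rintro ⟨w, hw, rfl⟩
        exact (cv_map_conj g A).mpr hw
    rw [e]
    exact card_map_of_injective (MulDistribMulAction.toMulEquiv V g).injective
  rw [ff, ff, h1, h2]

namespace IsBest

variable {Q A : Subgroup H}

omit [Finite H] [Finite V] in
/-- `A` is normalised by `N_H(Q)` -/
theorem map_conj (h : IsBest V Q A) (g : H) :
    IsBest V (Q.map (MulAut.conj g).toMonoidHom) (A.map (MulAut.conj g).toMonoidHom) := by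
  have key : ∀ B ≤ Q.map (MulAut.conj g).toMonoidHom, ∃ B' ≤ Q, B = B'.map (MulAut.conj g).toMonoidHom := by
    intro B hB
    refine ⟨B.map (MulAut.conj g⁻¹).toMonoidHom, ?_, ?_⟩
    · rintro _ ⟨b, hb, rfl⟩
      obtain ⟨q, hq, e⟩ := hB hb
      have e' : g * q * g⁻¹ = b := e
      change g⁻¹ * b * g⁻¹⁻¹ ∈ Q
      rw [← e']
      have e2 : g⁻¹ * (g * q * g⁻¹) * g⁻¹⁻¹ = q := by group
      rw [e2]
      exact hq
    · ext x
      constructor
      · intro hx
        refine ⟨g⁻¹ * x * g⁻¹⁻¹, ⟨x, hx, rfl⟩, ?_⟩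
        change g * (g⁻¹ * x * g⁻¹⁻¹) * g⁻¹ = x
        group
      · rintro ⟨_, ⟨b, hb, rfl⟩, rfl⟩
        change g * (g⁻¹ * b * g⁻¹⁻¹) * g⁻¹ ∈ B
        have e2 : g * (g⁻¹ * b * g⁻¹⁻¹) * g⁻¹ = b := by group
        rw [e2]
        exact hb
  refine ⟨Subgroup.map_mono h.le, fun B hB => ?_, fun B hB hAB => ?_⟩
  · obtain ⟨B', hB', rfl⟩ := key B hB
    rw [ff_map_conj, ff_map_conj]
    exact h.max B' hB'
  · obtain ⟨B', hB', rfl⟩ := key B hB
    rw [ff_map_conj, ff_map_conj] at hAB
    exact Subgroup.map_mono (h.min B' hB' hAB)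

omit [Finite H] [Finite V] in
theorem le_normalizer (h : IsBest V Q A) : normalizer (Q : Set H) ≤ normalizer (A : Set H) := by
  intro g hg
  have h1 := h.map_conj g
  rw [map_conj_eq_of_mem_normalizer hg] at h1
  exact mem_normalizer_of_map_conj_eq (h.unique h1).symm

end IsBest

/-! ### minimal parabolics -/

/-- the subgroup generated by the `P`-conjugates of the elements of `X` -/
def gn (P : Subgroup H) (X : Subgroup V) : Subgroup V := closure {w | ∃ x ∈ P, ∃ v ∈ X, w = x • v}

omit [Finite H] [Finite V] in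
theorem le_gn (P : Subgroup H) (X : Subgroup V) : X ≤ gn P X := fun v hv =>
  subset_closure ⟨1, one_mem _, v, hv, (one_smul H v).symm⟩

omit [Finite H] [Finite V] in
theorem smul_mem_gn {P : Subgroup H} {X : Subgroup V} {x : H} (hx : x ∈ P) {v : V} (hv : v ∈ gn P X) :
    x • v ∈ gn P X := by
  induction hv using closure_induction with
  | mem w hw =>
    obtain ⟨y, hy, u, hu, rfl⟩ := hw
    exact subset_closure ⟨x * y, mul_mem hx hy, u, hu, (mul_smul x y u).symm⟩
  | one => rw [smul_one]; exact one_mem _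
  | mul a b _ _ ha hb => rw [smul_mul']; exact mul_mem ha hb
  | inv a _ ha => rw [smul_inv']; exact inv_mem ha

/-- `P` has no over-offender on `U` -/
def NoOver (P : Subgroup H) (U : Subgroup V) : Prop := ∀ E : Subgroup H, E ≤ P →
  (∀ x ∈ E, x * x = 1) → Nat.card E ≤ Nat.card (E ⊓ fx U : Subgroup H) * (cv V (E : Set H)).relIndex U

/-- `P` is a minimal parabolic over its Sylow 2-subgroup `T` and moves `C_V(T)` -/
structure Mov (V : Type*) [Group V] [MulDistribMulAction H V] (T P : Subgroup H) : Prop where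
  min : IsMinPar T P
  two : IsPGroup 2 T
  syl : ¬ 2 ∣ T.relIndex P
  mov : ¬ P ≤ fx (cv V (T : Set H))

omit [Finite V] in
theorem Mov.o2_le {T P : Subgroup H} (h : Mov V T P) : o2 P ≤ T :=
  o2_le_of_sylow h.min.le h.two h.syl

omit [Finite H] [Finite V] in
theorem le_normalizer_of_conj {P K : Subgroup H} (h : ∀ p ∈ P, ∀ x ∈ K, p * x * p⁻¹ ∈ K) :
    P ≤ normalizer (K : Set H) := by
  intro p hp
  rw [mem_normalizer_iff]
  intro x
  refine ⟨fun hx => h p hp x hx, fun hx => ?_⟩
  have h1 := h p⁻¹ (inv_mem hp) _ hx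
  have e : p⁻¹ * (p * x * p⁻¹) * p⁻¹⁻¹ = x := by group
  rwa [e] at h1

omit [Finite V] in
theorem Mov.inf_fx_le {T P : Subgroup H} (h : Mov V T P) :
    T ⊓ (P ⊓ fx (gn P (cv V (T : Set H)))) ≤ o2 P := by
  have hn : P ≤ normalizer ((P ⊓ fx (gn P (cv V (T : Set H))) : Subgroup H) : Set H) := by
    refine le_normalizer_of_conj fun p hp x hx => mem_inf.mpr ⟨mul_mem (mul_mem hp hx.1) (inv_mem hp), ?_⟩
    intro u hu
    rw [mul_smul, mul_smul, hx.2 _ (smul_mem_gn (inv_mem hp) hu), smul_inv_smul]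
  rcases h.min.sup_eq_or_inf_le h.two h.syl inf_le_left hn with h1 | h1
  · refine absurd ?_ h.mov
    rw [← h1]
    refine sup_le (fun x hx u hu => hx.2 u (le_gn P _ hu)) fun t ht u hu => hu t ht
  · exact h1

omit [Finite V] in
theorem Mov.o2_le_fx {T P : Subgroup H} (h : Mov V T P) : o2 P ≤ fx (gn P (cv V (T : Set H))) := by
  intro y hy u hu
  induction hu using closure_induction with
  | mem w hw =>
    obtain ⟨x, hx, v, hv, rfl⟩ := hw
    have h1 : x⁻¹ * y * x ∈ o2 P := by
      have := (mem_normalizer_iff.mp (le_normalizer_o2 P (inv_mem hx)) y).mp hy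
      rwa [inv_inv] at this
    have h2 := hv _ (h.o2_le h1)
    calc y • x • v = x • (x⁻¹ * y * x) • v := by simp only [← mul_smul]; group
      _ = x • v := by rw [h2]
  | one => rw [smul_one]
  | mul a b _ _ ha hb => rw [smul_mul', ha, hb]
  | inv a _ ha => rw [smul_inv', ha]

omit [Finite V] in
/-- the count behind (3) -/
theorem card_le_of_noOver {A T P : Subgroup H} (hAT : A ≤ T) (hP : Mov V T P)
    (hA : ∀ x ∈ A, x * x = 1) (hno : NoOver P (gn P (cv V (T : Set H)))) :
    Nat.card A ≤ Nat.card (A ⊓ o2 P : Subgroup H) *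
      (cv V (A : Set H)).relIndex (gn P (cv V (T : Set H))) := by
  have hAP : A ≤ P := hAT.trans hP.min.le
  refine (hno A hAP hA).trans (Nat.mul_le_mul_right _ (card_le_of_le ?_))
  exact le_inf inf_le_left
    ((le_inf (inf_le_left.trans hAT) (le_inf (inf_le_left.trans hAP) inf_le_right)).trans hP.inf_fx_le)

/-- the count behind (3) -/
theorem ff_le_of_noOver {A T P : Subgroup H} (hAT : A ≤ T) (hP : Mov V T P)
    (hA : ∀ x ∈ A, x * x = 1) (hno : NoOver P (gn P (cv V (T : Set H)))) :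
    ff V A ≤ ff V (A ⊓ o2 P) := by
  have h1 := card_le_of_noOver hAT hP hA hno
  have h2 : gn P (cv V (T : Set H)) ≤ cv V ((A ⊓ o2 P : Subgroup H) : Set H) :=
    fun u hu a ha => hP.o2_le_fx ha.2 u hu
  have h3 : (cv V (A : Set H)).relIndex (gn P (cv V (T : Set H))) ≤
      (cv V (A : Set H)).relIndex (cv V ((A ⊓ o2 P : Subgroup H) : Set H)) :=
    relIndex_le_of_le_right h2 index_ne_zero_of_finite
  have h4 : Nat.card (cv V (A : Set H)) *
      (cv V (A : Set H)).relIndex (cv V ((A ⊓ o2 P : Subgroup H) : Set H)) =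
      Nat.card (cv V ((A ⊓ o2 P : Subgroup H) : Set H)) :=
    card_mul_relIndex (cv_anti (SetLike.coe_subset_coe.mpr inf_le_left))
  unfold ff
  calc Nat.card A * Nat.card (cv V (A : Set H))
      ≤ Nat.card (A ⊓ o2 P : Subgroup H) *
          (cv V (A : Set H)).relIndex (gn P (cv V (T : Set H))) * Nat.card (cv V (A : Set H)) := by
        gcongr
    _ ≤ Nat.card (A ⊓ o2 P : Subgroup H) *
          (cv V (A : Set H)).relIndex (cv V ((A ⊓ o2 P : Subgroup H) : Set H)) *
            Nat.card (cv V (A : Set H)) := by gcongr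
    _ = _ := by rw [← h4]; ring

/-- (3) -/
theorem IsBest.le_o2 {Q A T P : Subgroup H} (h : IsBest V Q A) (hQ : ∀ x ∈ Q, x * x = 1)
    (hAT : A ≤ T) (hP : Mov V T P) (hno : NoOver P (gn P (cv V (T : Set H)))) : A ≤ o2 P := by
  by_contra hcon
  have h1 := h.lt (inf_lt_left.mpr hcon)
  have h2 := ff_le_of_noOver hAT hP (fun x hx => hQ x (h.le hx)) hno
  omega

/-! ### (3') all Sylow groups at once -/

omit [Finite H] [Finite V] in
theorem Mov.map_conj {T P : Subgroup H} (h : Mov V T P) (g : H) :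
    Mov V (T.map (MulAut.conj g).toMonoidHom) (P.map (MulAut.conj g).toMonoidHom) := by
  refine ⟨MinPar.IsMinPar.map (MulAut.conj g) h.min, h.two.map _, ?_, fun h1 => h.mov ?_⟩
  · rw [relIndex_map_map_of_injective _ _ (MulAut.conj g).injective]
    exact h.syl
  · intro x hx v hv
    have h2 := h1 ⟨x, hx, rfl⟩ (g • v) ((cv_map_conj g T).mpr hv)
    change (g * x * g⁻¹) • g • v = g • v at h2
    rw [← mul_smul, inv_mul_cancel_right, mul_smul] at h2
    exact smul_left_cancel g h2

/-- the subgroup generated by the minimal parabolics over `T` moving `C_V(T)` -/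
def xx (V : Type*) [Group V] [MulDistribMulAction H V] (T : Subgroup H) : Subgroup H :=
  closure {x | ∃ P, Mov V T P ∧ x ∈ P}

omit [Finite H] [Finite V] in
theorem map_conj_mul (K : Subgroup H) (x y : H) :
    (K.map (MulAut.conj y).toMonoidHom).map (MulAut.conj x).toMonoidHom =
      K.map (MulAut.conj (x * y)).toMonoidHom := by
  rw [Subgroup.map_map]
  congr 1
  ext z
  simp [mul_assoc]

/-- one step of (3') -/
theorem IsBest.le_map_mul {Q A T P : Subgroup H} (h : IsBest V Q A) (hQ : ∀ x ∈ Q, x * x = 1)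
    (hno : ∀ T P : Subgroup H, Mov V T P → NoOver P (gn P (cv V (T : Set H)))) (hP : Mov V T P)
    {y p : H} (hp : p ∈ P) (hAT : A ≤ T.map (MulAut.conj y).toMonoidHom) :
    A ≤ T.map (MulAut.conj (y * p)).toMonoidHom := by
  have h1 := h.le_o2 hQ hAT (hP.map_conj y) (hno _ _ (hP.map_conj y))
  rw [o2_map _ (MulAut.conj y).injective] at h1
  refine h1.trans ?_
  rw [← map_conj_mul]
  refine Subgroup.map_mono ?_
  rw [← map_conj_eq_of_mem_normalizer (le_normalizer_o2 P hp)]
  exact Subgroup.map_mono hP.o2_le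

/-- (3') for `X_T` -/
theorem IsBest.le_map_of_mem_xx {Q A T : Subgroup H} (h : IsBest V Q A) (hQ : ∀ x ∈ Q, x * x = 1)
    (hno : ∀ T P : Subgroup H, Mov V T P → NoOver P (gn P (cv V (T : Set H))))
    {y z : H} (hz : z ∈ xx V T) (hAT : A ≤ T.map (MulAut.conj y).toMonoidHom) :
    A ≤ T.map (MulAut.conj (y * z)).toMonoidHom := by
  induction hz using closure_induction_right with
  | one => rwa [mul_one]
  | mul_right x _ p hp ih =>
    obtain ⟨P, hP, hpP⟩ := hp
    rw [← mul_assoc]
    exact h.le_map_mul hQ hno hP hpP ih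
  | mul_inv_cancel x _ p hp ih =>
    obtain ⟨P, hP, hpP⟩ := hp
    rw [← mul_assoc]
    exact h.le_map_mul hQ hno hP (inv_mem hpP) ih

/-- (3') for `⟨X_T, N_H(T)⟩` -/
theorem IsBest.le_map_of_mem_sup {Q A T : Subgroup H} (h : IsBest V Q A) (hQ : ∀ x ∈ Q, x * x = 1)
    (hno : ∀ T P : Subgroup H, Mov V T P → NoOver P (gn P (cv V (T : Set H))))
    {z : H} (hz : z ∈ xx V T ⊔ normalizer (T : Set H)) (hAT : A ≤ T) :
    A ≤ T.map (MulAut.conj z).toMonoidHom := by
  rw [Subgroup.sup_eq_closure] at hz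
  have key : ∀ x y : H, y ∈ ((xx V T : Subgroup H) : Set H) ∪ (normalizer (T : Set H) : Set H) →
      A ≤ T.map (MulAut.conj x).toMonoidHom → A ≤ T.map (MulAut.conj (x * y)).toMonoidHom := by
    rintro x y (hy | hy) ih
    · exact h.le_map_of_mem_xx hQ hno hy ih
    · rw [← map_conj_mul, map_conj_eq_of_mem_normalizer hy]
      exact ih
  induction hz using closure_induction_right with
  | one =>
    rw [map_conj_eq_of_mem_normalizer (one_mem _)]
    exact hAT
  | mul_right x _ y hy ih => exact key x y hy ih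
  | mul_inv_cancel x _ y hy ih =>
    refine key x y⁻¹ ?_ ih
    rcases hy with hy | hy
    · exact Or.inl (inv_mem hy)
    · exact Or.inr (inv_mem hy)

/-- **No over-offenders** (#12842, sharpened by #13080): if `H` is generated by `N_H(T)` and the minimal
parabolics over the Sylow 2-subgroup `T` which move `C_V(T)`, if `⟨C_V(T)^H⟩` is faithful and if minimal
parabolics have no over-offender on `⟨C_V(T)^P⟩`, then `H` has no over-offender on `V`. -/
theorem no_over {T : Subgroup H} (hT : IsPGroup 2 T) (hTi : ¬ 2 ∣ T.index)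
    (hgen : xx V T ⊔ normalizer (T : Set H) = ⊤)
    (hfaith : fx (gn (⊤ : Subgroup H) (cv V (T : Set H))) = (⊥ : Subgroup H))
    (hV : ∀ v w : V, v * w = w * v)
    (hno : ∀ T P : Subgroup H, Mov V T P → NoOver P (gn P (cv V (T : Set H))))
    {E : Subgroup H} (hE : ∀ x ∈ E, x * x = 1) : ff V E ≤ Nat.card V := by
  by_contra hcon
  push Not at hcon
  -- a conjugate of `E` lies in `T`
  have hE2 : IsPGroup 2 E := fun x => ⟨1, Subtype.ext (by
    have := hE x x.2
    rw [pow_one, pow_two]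
    exact this)⟩
  obtain ⟨S, hS⟩ := hE2.exists_le_sylow
  let T' : Sylow 2 H := hT.toSylow hTi
  obtain ⟨g, hg⟩ := MulAction.exists_smul_eq H S T'
  have hgT : E.map (MulAut.conj g).toMonoidHom ≤ T := by
    have h1 : (S : Subgroup H).map (MulAut.conj g).toMonoidHom = T := by
      have h2 := congrArg (fun K : Sylow 2 H => (K : Subgroup H)) hg
      exact h2
    rw [← h1]
    exact Subgroup.map_mono hS
  have hE' : ∀ x ∈ E.map (MulAut.conj g).toMonoidHom, x * x = 1 := by
    rintro _ ⟨x, hx, rfl⟩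
    rw [← map_mul, hE x hx, map_one]
  have hc' : Nat.card V < ff V (E.map (MulAut.conj g).toMonoidHom) := by rwa [ff_map_conj]
  generalize E.map (MulAut.conj g).toMonoidHom = Q at hgT hE' hc'
  have hQc : ∀ a ∈ Q, ∀ b ∈ Q, a * b = b * a := by
    intro a ha b hb
    have h1 := hE' _ (mul_mem ha hb)
    have h2 := hE' a ha
    have h3 := hE' b hb
    calc a * b = a * ((a * b) * (a * b)) * b := by rw [h1, mul_one]
      _ = (a * a) * (b * a) * (b * b) := by simp only [mul_assoc]
      _ = b * a := by rw [h2, h3, one_mul, mul_one]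
  obtain ⟨A, hA⟩ := exists_isBest (V := V) hV hQc
  refine hA.ne_bot le_rfl hc' (le_bot_iff.mp ?_)
  rw [← hfaith]
  intro a ha
  rw [mem_fx]
  intro u hu
  induction hu using closure_induction with
  | mem w hw =>
    obtain ⟨x, -, v, hv, rfl⟩ := hw
    have h1 := hA.le_map_of_mem_sup (T := T) (z := x) hE' hno (by rw [hgen]; trivial)
      (hA.le.trans hgT)
    obtain ⟨t, ht, e⟩ := h1 ha
    have e' : x * t * x⁻¹ = a := e
    have e2 : a • x • v = x • t • v := by rw [← e', ← mul_smul, inv_mul_cancel_right, mul_smul]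
    rw [e2, hv t ht]
  | one => rw [smul_one]
  | mul a b _ _ ha hb => rw [smul_mul', ha, hb]
  | inv a _ ha => rw [smul_inv', ha]

/-! ### exact offenders -/

/-- A minimal exact offender `A ≤ T` lies in `O₂(P)`, or meets `O₂(P)` trivially and then
`V = ⟨C_V(T)^P⟩ C_V(A)`. -/
theorem exact_alt {A T P : Subgroup H} (hAT : A ≤ T) (hP : Mov V T P) (hA : ∀ x ∈ A, x * x = 1)
    (hno : NoOver P (gn P (cv V (T : Set H)))) (hV : ∀ v w : V, v * w = w * v)
    (hex : ff V A = Nat.card V) (hmin : ∀ B < A, B ≠ ⊥ → ff V B < ff V A) :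
    A ≤ o2 P ∨ A ⊓ o2 P = ⊥ ∧ gn P (cv V (T : Set H)) ⊔ cv V (A : Set H) = ⊤ := by
  by_cases h1 : A ≤ o2 P
  · exact Or.inl h1
  right
  have h2 : A ⊓ o2 P = ⊥ := by
    by_contra h3
    have h4 := hmin _ (inf_lt_left.mpr h1) h3
    have h5 := ff_le_of_noOver hAT hP hA hno
    omega
  refine ⟨h2, ?_⟩
  have h3 := card_le_of_noOver hAT hP hA hno
  rw [h2, card_bot, one_mul] at h3
  have h4 := card_sup_mul_of_comm (K := gn P (cv V (T : Set H))) (L := cv V (A : Set H))
    (fun a _ b _ => hV a b)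
  have h5 : Nat.card (gn P (cv V (T : Set H)) ⊓ cv V (A : Set H) : Subgroup V) *
      (cv V (A : Set H)).relIndex (gn P (cv V (T : Set H))) =
      Nat.card (gn P (cv V (T : Set H))) := by
    rw [inf_comm, ← Subgroup.inf_relIndex_right]
    exact card_mul_relIndex inf_le_right
  rw [← h5] at h4
  have h6 : 0 < Nat.card (gn P (cv V (T : Set H)) ⊓ cv V (A : Set H) : Subgroup V) := Nat.card_pos
  have h7 : Nat.card (gn P (cv V (T : Set H)) ⊔ cv V (A : Set H) : Subgroup V) =
      (cv V (A : Set H)).relIndex (gn P (cv V (T : Set H))) * Nat.card (cv V (A : Set H)) := by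
    apply Nat.eq_of_mul_eq_mul_right h6
    rw [h4]
    ring
  apply Subgroup.eq_top_of_card_eq
  apply le_antisymm (Subgroup.card_le_card_group _)
  rw [h7, ← hex, ff]
  exact Nat.mul_le_mul_right _ h3

end Cfsg.Agent.Omega.NO3S.ML
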