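import Cfsg.Agent.Omega.Node.NO3S

/-!
# Leaf NO-3S: moved to `Omega/Node/NO3S.lean` (same namespace `Omega.NO3S`)
-/
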