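import Cfsg.Agent.Omega.NO3S.PB.Geom
import Cfsg.Agent.Lib.NormalAbelian

/-!
# NO-3S, natural lines, `J(S) ≰ O₂(P)`: `C_{W_p/p}(Q_l) = V_l/p` (helper182, bb OMEGA #19793, THEOREM F)

`PB S B P V Z` (points = conjugates of `Z`, lines = conjugates of `V`, `W_X = ws V X`), the groups `W_X`, `X` a point of
`V`, commute with each other (critical distance `≥ 2`), and some `A ≤ B`, `A ≰ C(V)`, satisfies
`|A : C_A(X)| ≥ |X : C_X(A)|` for all elementary abelian `X ≤ U` (`Off U A`; `U = ⊤` if `A ∈ 𝒜(S)`).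
Then every `e ∈ W_Z` with `[e, C_B(V)] ≤ Z` lies in `I_V = W_X ∩ W_Y`.
-/

set_option autoImplicit false
set_option linter.unusedSectionVars false

namespace Cfsg.Agent.Omega.NO3S.FixW

open Subgroup Cfsg.Agent.Omega.NoFF.Basic Cfsg.Agent.Omega.NO3S.PT
open Cfsg.Agent.Omega.NoFF.ThmJ (EA MaxEA card_sup_mul)
open scoped Pointwise

variable {G : Type*} [Group G] [Finite G]

/-- `A` is abelian and `|A : C_A(X)| ≥ |X : C_X(A)|` for all elementary abelian `X ≤ U`. -/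
structure Off (U A : Subgroup G) : Prop where
  comm : A ≤ centralizer (A : Set G)
  off : ∀ X : Subgroup G, X ≤ U → EA X →
    Nat.card (A ⊓ centralizer (X : Set G) : Subgroup G) * Nat.card X ≤
      Nat.card A * Nat.card (X ⊓ centralizer (A : Set G) : Subgroup G)

theorem Off.of_max {A : Subgroup G} (h : MaxEA A) : Off ⊤ A where
  comm := h.comm
  off X _ hX := by
    have h1 : EA (A ⊓ centralizer (X : Set G) ⊔ X) := (h.toEA.mono inf_le_left).sup hX inf_le_right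
    have h2 := h.max _ h1
    have h3 := card_sup_mul (K := A ⊓ centralizer (X : Set G)) (H := X) (by
      refine le_trans ?_ (centralizer_le_normalizer _)
      exact comm_symm inf_le_right)
    rw [← h3]
    refine Nat.mul_le_mul h2 (Subgroup.card_le_of_le ?_)
    rintro x ⟨⟨hxA, -⟩, hxX⟩
    exact ⟨hxX, h.comm hxA⟩

variable {S : Sylow 2 G} {B P V Z A U : Subgroup G}

section core

variable (h : PB S B P V Z) (hA : Off U A) (hVU : V ≤ U) (hAB : A ≤ B) (hAV : ¬ A ≤ centralizer (V : Set G))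
include h hAB hAV

theorem inf_cent_le : V ⊓ centralizer (A : Set G) ≤ Z := by
  rintro v ⟨hv, hvA⟩
  by_contra hvZ
  refine hAV fun a ha => h.mem_cent_of (hAB ha) hv hvZ ?_
  exact mem_centralizer_iff.1 hvA a ha

theorem card_le_mul : Nat.card A ≤ Nat.card (A ⊓ centralizer (V : Set G) : Subgroup G) * Nat.card Z := by
  obtain ⟨v, hv, hvZ⟩ := h.exists_out
  rw [h.card_le hAB hv hvZ]
  exact Nat.mul_le_mul le_rfl (Subgroup.card_le_card_group _)

include hA hVU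

theorem mul_card_le : Nat.card (A ⊓ centralizer (V : Set G) : Subgroup G) * Nat.card Z ≤ Nat.card A := by
  have h1 := hA.off V hVU h.EA_V
  rw [h.card] at h1
  have h2 : Nat.card (V ⊓ centralizer (A : Set G) : Subgroup G) ≤ Nat.card Z :=
    Subgroup.card_le_of_le (inf_cent_le h hAB hAV)
  have h3 : Nat.card (A ⊓ centralizer (V : Set G) : Subgroup G) * Nat.card Z * Nat.card Z ≤ Nat.card A * Nat.card Z := by
    calc Nat.card (A ⊓ centralizer (V : Set G) : Subgroup G) * Nat.card Z * Nat.card Z =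
        Nat.card (A ⊓ centralizer (V : Set G) : Subgroup G) * (Nat.card Z * Nat.card Z) := by ring
      _ ≤ _ := h1
      _ ≤ _ := Nat.mul_le_mul le_rfl h2
  exact Nat.le_of_mul_le_mul_right h3 Nat.card_pos

theorem exists_act {v z : G} (hv : v ∈ V) (hvZ : v ∉ Z) (hz : z ∈ Z) : ∃ a ∈ A, a * v * a⁻¹ * v⁻¹ = z := by
  have h1 := mul_card_le h hA hVU hAB hAV
  rw [h.card_le hAB hv hvZ] at h1
  have h2 := Nat.le_of_mul_le_mul_left h1 Nat.card_pos
  have h3 : ((h.dh hv).comp (inclusion hAB)).range = ⊤ := Subgroup.eq_top_of_le_card _ h2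
  have h4 : (⟨z, hz⟩ : Z) ∈ ((h.dh hv).comp (inclusion hAB)).range := by rw [h3]; exact mem_top _
  obtain ⟨a, ha⟩ := h4
  exact ⟨a, a.2, congrArg Subtype.val ha⟩

end core

/-- The group generated by `V` and the `A`-conjugates of `e`. -/
def XX (V A : Subgroup G) (e : G) : Subgroup G := closure ((V : Set G) ∪ {x | ∃ a ∈ A, x = a * e * a⁻¹})

omit [Finite G] in
theorem V_le_XX {e : G} : V ≤ XX V A e := fun _ hv => subset_closure (Or.inl hv)

omit [Finite G] in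
theorem conj_mem_XX {e a : G} (ha : a ∈ A) : a * e * a⁻¹ ∈ XX V A e := subset_closure (Or.inr ⟨a, ha, rfl⟩)

omit [Finite G] in
theorem mem_XX {e : G} : e ∈ XX V A e := by
  have := conj_mem_XX (V := V) (e := e) (one_mem A)
  simpa using this

omit [Finite G] in
theorem XX_le {e : G} (hVU : V ≤ U) (heU : ∀ a ∈ A, a * e * a⁻¹ ∈ U) : XX V A e ≤ U := by
  rw [XX, closure_le]
  rintro x (hx | ⟨a, ha, rfl⟩)
  · exact hVU hx
  · exact heU a ha

/-- The groups `W_X`, `X` a point of `V`, commute with each other. -/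
def WComm (V Z : Subgroup G) : Prop :=
  ∀ X Y : Subgroup G, IsCj Z X → X ≤ V → IsCj Z Y → Y ≤ V → ws V X ≤ centralizer ((ws V Y : Subgroup G) : Set G)

omit [Finite G] in
theorem mem_sup_pow {e : G} (he : e * e = 1) (hV : ∀ v ∈ V, v * e = e * v) {x : G} (hx : x ∈ V ⊔ zpowers e) :
    x ∈ V ∨ x * e ∈ V := by
  have hi : e⁻¹ = e := inv_eq_of_mul_eq_one_right he
  let K : Subgroup G :=
    { carrier := {x | x ∈ V ∨ x * e ∈ V}
      one_mem' := Or.inl (one_mem V)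
      mul_mem' := by
        rintro x y (hx | hx) (hy | hy)
        · exact Or.inl (mul_mem hx hy)
        · exact Or.inr (by rw [mul_assoc]; exact mul_mem hx hy)
        · refine Or.inr ?_
          rw [mul_assoc, hV y hy, ← mul_assoc]
          exact mul_mem hx hy
        · refine Or.inl ?_
          have h1 := mul_mem hx hy
          have h2 : x * e * (y * e) = x * (e * (y * e)) := by group
          rw [h2, ← hV _ hy, mul_assoc y e e, he, mul_one] at h1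
          exact h1
      inv_mem' := by
        rintro x (hx | hx)
        · exact Or.inl (inv_mem hx)
        · refine Or.inr ?_
          have h1 := inv_mem hx
          rw [mul_inv_rev, hi] at h1
          have h2 := hV _ h1
          rw [mul_assoc e (x⁻¹) e] at h2
          rw [mul_left_cancel h2]; exact h1 }
  have h1 : V ⊔ zpowers e ≤ K := sup_le (fun v hv => Or.inl hv) (zpowers_le.2 (Or.inr (by rw [he]; exact one_mem V)))
  exact h1 hx

section main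

variable (h : PB S B P V Z) (hW : WComm V Z) (hAB : A ≤ B) {T : Subgroup G} (hT : IsCj Z T) (hTV : T ≤ V) {e : G}
  (he : e ∈ ws V T)
include h hW hAB hT hTV he

theorem A_norm {a : G} (ha : a ∈ A) : cj a V = V := cj_eq_iff.2 (h.PN (h.BP (hAB ha)))

theorem gen_mem {x : G} (hx : x ∈ (V : Set G) ∪ {x | ∃ a ∈ A, x = a * e * a⁻¹}) :
    ∃ Y, IsCj Z Y ∧ Y ≤ V ∧ x ∈ ws V Y := by
  rcases hx with hx | ⟨a, ha, rfl⟩
  · exact ⟨Z, h.isCj_self, h.ZV, h.V_le_ws h.ZV hx⟩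
  · refine ⟨cj a T, hT.cj a, ?_, ?_⟩
    · have h1 := cj_le_cj (g := a) |>.2 hTV
      rwa [A_norm h hW hAB hT hTV he ha] at h1
    · rw [ws_cj]
      exact conj_mem_cj he

theorem XX_comm : XX V A e ≤ centralizer ((XX V A e : Subgroup G) : Set G) := by
  rw [XX, Subgroup.centralizer_closure, closure_le]
  intro x hx
  rw [SetLike.mem_coe, mem_centralizer_iff]
  intro y hy
  obtain ⟨X, hX, hXV, hxX⟩ := gen_mem h hW hAB hT hTV he hx
  obtain ⟨Y, hY, hYV, hyY⟩ := gen_mem h hW hAB hT hTV he hy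
  exact mem_centralizer_iff.1 (hW X Y hX hXV hY hYV hxX) y hyY

theorem XX_sq {x : G} (hx : x ∈ XX V A e) : x ^ 2 = 1 := by
  have hc := XX_comm h hW hAB hT hTV he
  induction hx using closure_induction with
  | mem x hx =>
    obtain ⟨X, hX, hXV, hxX⟩ := gen_mem h hW hAB hT hTV he hx
    rw [pow_two]
    exact h.ws_sq' hX x hxX
  | one => simp
  | mul x y hx hy ihx ihy =>
    have h1 : Commute x y := (mem_centralizer_iff.1 (hc hy) x hx)
    rw [h1.mul_pow, ihx, ihy, one_mul]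
  | inv x _ ih => rw [inv_pow, ih, inv_one]

theorem XX_EA : EA (XX V A e) := ⟨XX_comm h hW hAB hT hTV he, fun _ hx => XX_sq h hW hAB hT hTV he hx⟩

theorem comm_mem (hAc : A ≤ centralizer (A : Set G)) {b : G} (hb : b ∈ A) (hbV : b ∈ centralizer (V : Set G))
    (hbe : b * e * b⁻¹ * e⁻¹ ∈ T) {u : G} (hu : u ∈ XX V A e) : u * b * u⁻¹ * b⁻¹ ∈ V := by
  have hc := XX_comm h hW hAB hT hTV he
  induction hu using closure_induction with
  | mem x hx =>
    rcases hx with hx | ⟨a, ha, rfl⟩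
    · have h1 : x * b = b * x := mem_centralizer_iff.1 hbV x hx
      rw [h1]
      have : b * x * x⁻¹ * b⁻¹ = 1 := by group
      rw [this]; exact one_mem V
    · have h1 : a * b = b * a := mem_centralizer_iff.1 (hAc hb) a ha
      have h2 : a⁻¹ * b = b * a⁻¹ := by rw [inv_mul_eq_iff_eq_mul, ← mul_assoc, h1, mul_inv_cancel_right]
      have h3 : a⁻¹ * b⁻¹ = b⁻¹ * a⁻¹ := by rw [← mul_inv_rev, ← mul_inv_rev, h1]
      have e1 : a * e * a⁻¹ * b * (a * e * a⁻¹)⁻¹ * b⁻¹ = a * (b * e * b⁻¹ * e⁻¹)⁻¹ * a⁻¹ := by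
        calc a * e * a⁻¹ * b * (a * e * a⁻¹)⁻¹ * b⁻¹ = a * e * (a⁻¹ * b) * a * e⁻¹ * (a⁻¹ * b⁻¹) := by group
          _ = a * e * (b * a⁻¹) * a * e⁻¹ * (b⁻¹ * a⁻¹) := by rw [h2, h3]
          _ = _ := by group
      rw [e1, ← A_norm h hW hAB hT hTV he ha]
      exact conj_mem_cj (inv_mem (hTV hbe))
  | one => simp
  | mul x y hx hy ihx ihy =>
    have h1 : x * (y * b * y⁻¹ * b⁻¹) = (y * b * y⁻¹ * b⁻¹) * x :=
      (mem_centralizer_iff.1 (hc hx) _ (V_le_XX ihy)).symm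
    have e1 : x * y * b * (x * y)⁻¹ * b⁻¹ = x * (y * b * y⁻¹ * b⁻¹) * (b * x⁻¹ * b⁻¹) := by group
    have e2 : (y * b * y⁻¹ * b⁻¹) * x * (b * x⁻¹ * b⁻¹) = (y * b * y⁻¹ * b⁻¹) * (x * b * x⁻¹ * b⁻¹) := by group
    rw [e1, h1, e2]
    exact mul_mem ihy ihx
  | inv x hx ih =>
    have h1 : x * (x * b * x⁻¹ * b⁻¹) = (x * b * x⁻¹ * b⁻¹) * x :=
      (mem_centralizer_iff.1 (hc hx) _ (V_le_XX ih)).symm
    have e1 : x⁻¹ * b * x⁻¹⁻¹ * b⁻¹ = x⁻¹ * (x * b * x⁻¹ * b⁻¹)⁻¹ * x := by group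
    have h2 : x⁻¹ * (x * b * x⁻¹ * b⁻¹)⁻¹ * x = (x * b * x⁻¹ * b⁻¹)⁻¹ := by
      have h3 : (x * b * x⁻¹ * b⁻¹)⁻¹ * x = x * (x * b * x⁻¹ * b⁻¹)⁻¹ := by
        rw [inv_mul_eq_iff_eq_mul, ← mul_assoc, ← h1, mul_inv_cancel_right]
      rw [mul_assoc, h3, inv_mul_cancel_left]
    rw [e1, h2]
    exact inv_mem ih

/-- `u ↦ [u, b]`, `X → V`. -/
def cb (hAc : A ≤ centralizer (A : Set G)) {b : G} (hb : b ∈ A) (hbV : b ∈ centralizer (V : Set G))
    (hbe : b * e * b⁻¹ * e⁻¹ ∈ T) : XX V A e →* V where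
  toFun u := ⟨u * b * (u : G)⁻¹ * b⁻¹, comm_mem h hW hAB hT hTV he hAc hb hbV hbe u.2⟩
  map_one' := by ext; simp
  map_mul' x y := by
    have hc := XX_comm h hW hAB hT hTV he
    ext
    show (x : G) * y * b * ((x : G) * y)⁻¹ * b⁻¹ = (x * b * (x : G)⁻¹ * b⁻¹) * (y * b * (y : G)⁻¹ * b⁻¹)
    have h0 := comm_mem h hW hAB hT hTV he hAc hb hbV hbe y.2
    have h1 : (x : G) * (y * b * (y : G)⁻¹ * b⁻¹) = (y * b * (y : G)⁻¹ * b⁻¹) * x :=
      (mem_centralizer_iff.1 (hc x.2) _ (V_le_XX h0)).symm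
    have e1 : (x : G) * y * b * ((x : G) * y)⁻¹ * b⁻¹ = x * (y * b * (y : G)⁻¹ * b⁻¹) * (b * (x : G)⁻¹ * b⁻¹) := by
      group
    have e2 : (y * b * (y : G)⁻¹ * b⁻¹) * x * (b * (x : G)⁻¹ * b⁻¹) =
      (y * b * (y : G)⁻¹ * b⁻¹) * (x * b * (x : G)⁻¹ * b⁻¹) := by group
    rw [e1, h1, e2]
    exact h.Vcomm h0 (comm_mem h hW hAB hT hTV he hAc hb hbV hbe x.2)

theorem cb_apply (hAc : A ≤ centralizer (A : Set G)) {b : G} (hb : b ∈ A) (hbV : b ∈ centralizer (V : Set G))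
    (hbe : b * e * b⁻¹ * e⁻¹ ∈ T) (u : XX V A e) :
    (cb h hW hAB hT hTV he hAc hb hbV hbe u : G) = u * b * (u : G)⁻¹ * b⁻¹ := rfl

/-- `|C_X(b)| ≥ |Z| |C_X(A)|` -/
theorem card_ker (hAc : A ≤ centralizer (A : Set G)) (hAV : ¬ A ≤ centralizer (V : Set G)) {b : G} (hb : b ∈ A)
    (hbV : b ∈ centralizer (V : Set G)) (hbe : b * e * b⁻¹ * e⁻¹ ∈ T) :
    Nat.card Z * Nat.card (XX V A e ⊓ centralizer (A : Set G) : Subgroup G) ≤
      Nat.card (cb h hW hAB hT hTV he hAc hb hbV hbe).ker := by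
  set C : Subgroup G := XX V A e ⊓ centralizer (A : Set G) with hC
  have h1 := card_sup_mul (K := V) (H := C) (by
    refine le_trans ?_ (centralizer_le_normalizer _)
    refine comm_symm ?_
    exact fun v hv => centralizer_le (inf_le_left : C ≤ _) (XX_comm h hW hAB hT hTV he (V_le_XX hv)))
  have h2 : Nat.card (V ⊓ C : Subgroup G) ≤ Nat.card Z := by
    refine Subgroup.card_le_of_le ?_
    exact le_trans (inf_le_inf_left _ inf_le_right) (inf_cent_le h hAB hAV)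
  have h3 : Nat.card (V ⊔ C : Subgroup G) ≤ Nat.card (cb h hW hAB hT hTV he hAc hb hbV hbe).ker := by
    have hle : V ⊔ C ≤ XX V A e ⊓ centralizer ({b} : Set G) := by
      refine sup_le (le_inf V_le_XX fun v hv => ?_) (le_inf inf_le_left fun v hv => ?_)
      · rw [mem_centralizer_singleton_iff]
        exact mem_centralizer_iff.1 hbV v hv
      · rw [mem_centralizer_singleton_iff]
        exact (mem_centralizer_iff.1 hv.2 b hb).symm
    refine (Subgroup.card_le_of_le hle).trans ?_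
    refine Nat.card_le_card_of_injective (fun x => ⟨⟨x.1, x.2.1⟩, ?_⟩) ?_
    · rw [MonoidHom.mem_ker]
      ext
      rw [cb_apply]
      have h4 : (x : G) * b = b * x := mem_centralizer_singleton_iff.1 x.2.2
      show (x : G) * b * (x : G)⁻¹ * b⁻¹ = 1
      rw [h4]; group
    · intro x y hxy
      have h5 := congrArg (fun z => ((z : (XX V A e)) : G)) (congrArg Subtype.val hxy)
      exact Subtype.ext h5
  rw [h.card] at h1
  have h4 : Nat.card Z * Nat.card C * Nat.card Z ≤ Nat.card (V ⊔ C : Subgroup G) * Nat.card Z := by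
    calc Nat.card Z * Nat.card C * Nat.card Z = Nat.card Z * Nat.card Z * Nat.card C := by ring
      _ = _ := h1.symm
      _ ≤ _ := Nat.mul_le_mul le_rfl h2
  exact (Nat.le_of_mul_le_mul_right h4 Nat.card_pos).trans h3

/-- `|[X, b]| ≥ 2 |Z|` if `[e, b] ≠ 1` -/
theorem card_range (hA : Off U A) (hVU : V ≤ U) (hAV : ¬ A ≤ centralizer (V : Set G)) (hTZ : T ≠ Z) {b : G}
    (hb : b ∈ A) (hbV : b ∈ centralizer (V : Set G)) (hbe : b * e * b⁻¹ * e⁻¹ ∈ T) (hne : b * e * b⁻¹ * e⁻¹ ≠ 1) :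
    2 * Nat.card Z ≤ Nat.card (cb h hW hAB hT hTV he hA.comm hb hbV hbe).range := by
  set f := cb h hW hAB hT hTV he hA.comm hb hbV hbe with hf
  set v : G := e * b * e⁻¹ * b⁻¹ with hv
  have hvT : v ∈ T := by
    have : v = (b * e * b⁻¹ * e⁻¹)⁻¹ := by rw [hv]; group
    rw [this]; exact inv_mem hbe
  have hv1 : v ≠ 1 := by
    intro h1
    apply hne
    have : b * e * b⁻¹ * e⁻¹ = v⁻¹ := by rw [hv]; group
    rw [this, h1, inv_one]
  have hvZ : v ∉ Z := fun h1 => hTZ (h.pts_eq hT h.isCj_self hvT h1 hv1)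
  have hvr : (⟨v, hTV hvT⟩ : V) ∈ f.range := ⟨⟨e, mem_XX⟩, rfl⟩
  have hZr : Z.subgroupOf V ≤ f.range := by
    rintro ⟨z, hzV⟩ hz
    obtain ⟨a, ha, haz⟩ := exists_act h hA hVU hAB hAV (hTV hvT) hvZ (mem_subgroupOf.1 hz)
    have h1 : a * b = b * a := mem_centralizer_iff.1 (hA.comm hb) a ha
    refine ⟨⟨a * e * a⁻¹, conj_mem_XX ha⟩ * (⟨e, mem_XX⟩ : XX V A e)⁻¹, ?_⟩
    rw [map_mul, map_inv]
    ext
    show a * e * a⁻¹ * b * (a * e * a⁻¹)⁻¹ * b⁻¹ * v⁻¹ = z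
    have h2 : a⁻¹ * b = b * a⁻¹ := by rw [inv_mul_eq_iff_eq_mul, ← mul_assoc, h1, mul_inv_cancel_right]
    have h3 : a⁻¹ * b⁻¹ = b⁻¹ * a⁻¹ := by rw [← mul_inv_rev, ← mul_inv_rev, h1]
    refine Eq.trans ?_ haz
    calc a * e * a⁻¹ * b * (a * e * a⁻¹)⁻¹ * b⁻¹ * v⁻¹ = a * e * (a⁻¹ * b) * a * e⁻¹ * (a⁻¹ * b⁻¹) * v⁻¹ := by group
      _ = a * e * (b * a⁻¹) * a * e⁻¹ * (b⁻¹ * a⁻¹) * v⁻¹ := by rw [h2, h3]
      _ = _ := by rw [hv]; group
  have hcZ : Nat.card (Z.subgroupOf V) = Nat.card Z :=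
    Nat.card_congr (Subgroup.subgroupOfEquivOfLe h.ZV).toEquiv
  have h5 := Cfsg.Agent.Omega.NoFF.ThmJ.card_mul_relIndex hZr
  rw [← h5, hcZ, mul_comm]
  refine Nat.mul_le_mul le_rfl ?_
  have h6 : (Z.subgroupOf V).relIndex f.range ≠ 1 := by
    intro h7
    rw [Subgroup.relIndex_eq_one] at h7
    exact hvZ (mem_subgroupOf.1 (h7 hvr))
  have h7 : (Z.subgroupOf V).relIndex f.range ≠ 0 := by
    intro h8
    rw [h8, mul_zero] at h5
    exact Nat.card_pos.ne' h5.symm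
  omega

/-- `|A| ≤ |C_A(X)| |Z|²` -/
theorem card_A_le (hAc : A ≤ centralizer (A : Set G)) (hAV : ¬ A ≤ centralizer (V : Set G))
    (heQ : ∀ b ∈ A, b ∈ centralizer (V : Set G) → b * e * b⁻¹ * e⁻¹ ∈ T) :
    Nat.card A ≤ Nat.card (A ⊓ centralizer (XX V A e : Set G) : Subgroup G) * Nat.card Z * Nat.card Z := by
  refine (card_le_mul h hAB hAV).trans (Nat.mul_le_mul ?_ le_rfl)
  set Q : Subgroup G := A ⊓ centralizer (V : Set G) with hQ
  let g : Q →* T :=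
    { toFun := fun b => ⟨b * e * (b : G)⁻¹ * e⁻¹, heQ b b.2.1 b.2.2⟩
      map_one' := by ext; simp
      map_mul' := by
        intro x y
        ext
        show (x : G) * y * e * ((x : G) * y)⁻¹ * e⁻¹ = (x * e * (x : G)⁻¹ * e⁻¹) * (y * e * (y : G)⁻¹ * e⁻¹)
        have h0 := hTV (heQ y y.2.1 y.2.2)
        have h1 : (x : G) * (y * e * (y : G)⁻¹ * e⁻¹) * (x : G)⁻¹ = y * e * (y : G)⁻¹ * e⁻¹ := by
          rw [← mem_centralizer_iff.1 x.2.2 _ h0, mul_inv_cancel_right]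
        have e1 : (x : G) * y * e * ((x : G) * y)⁻¹ * e⁻¹ =
          ((x : G) * (y * e * (y : G)⁻¹ * e⁻¹) * (x : G)⁻¹) * (x * e * (x : G)⁻¹ * e⁻¹) := by group
        rw [e1, h1]
        exact h.Vcomm h0 (hTV (heQ x x.2.1 x.2.2)) }
  have h1 := Subgroup.card_mul_index g.ker
  rw [Subgroup.index_ker] at h1
  rw [← h1]
  refine Nat.mul_le_mul ?_ ?_
  · refine Nat.card_le_card_of_injective (fun x => ⟨x.1.1, x.1.2.1, ?_⟩) ?_
    · have h2 : (x : G) * e * (x : G)⁻¹ * e⁻¹ = 1 := congrArg Subtype.val (MonoidHom.mem_ker.1 x.2)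
      have h3 : ((x : Q) : G) * e = e * x := by
        have := mul_inv_eq_one.1 h2
        rw [mul_inv_eq_iff_eq_mul] at this
        exact this
      show ((x : Q) : G) ∈ centralizer (XX V A e : Set G)
      rw [XX, Subgroup.centralizer_closure, mem_centralizer_iff]
      rintro y (hy | ⟨a, ha, rfl⟩)
      · exact mem_centralizer_iff.1 x.1.2.2 y hy
      · have h4 : a * ((x : Q) : G) = x * a := mem_centralizer_iff.1 (hAc x.1.2.1) a ha
        have h5 : a⁻¹ * ((x : Q) : G) = x * a⁻¹ := by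
          rw [inv_mul_eq_iff_eq_mul, ← mul_assoc, h4, mul_inv_cancel_right]
        calc a * e * a⁻¹ * ((x : Q) : G) = a * e * (a⁻¹ * ((x : Q) : G)) := by group
          _ = a * (e * ((x : Q) : G)) * a⁻¹ := by rw [h5]; group
          _ = a * (((x : Q) : G) * e) * a⁻¹ := by rw [h3]
          _ = (a * ((x : Q) : G)) * e * a⁻¹ := by group
          _ = ((x : Q) : G) * (a * e * a⁻¹) := by rw [h4]; group
    · intro x y hxy
      have h5 := congrArg Subtype.val hxy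
      exact Subtype.ext (Subtype.ext h5)
  · rw [← h.card_pt hT]
    exact Subgroup.card_le_card_group _

/-- If `A ⊓ C(V)` centralises `e`, then `e ∈ I_V`. -/
theorem mem_of_cent (hA : Off U A) (hVU : V ≤ U) (heU : e ∈ U) (hf : ¬ kx V Z ≤ centralizer (V : Set G))
    (hAV : ¬ A ≤ centralizer (V : Set G)) (hTZ : T ≠ Z)
    (heQ : ∀ b ∈ A, b ∈ centralizer (V : Set G) → b * e = e * b) : e ∈ IV V Z := by
  by_contra heI
  have hesq : e * e = 1 := h.ws_sq' hT e he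
  have heV : e ∉ V := fun h1 => heI (h.V_le_IV h1)
  have hEe : EA (zpowers e) := by
    refine ⟨?_, ?_⟩
    · rw [zpowers_le, mem_centralizer_iff]
      rintro _ ⟨k, rfl⟩
      exact (Commute.refl e).zpow_left k
    · rintro _ ⟨k, rfl⟩
      rw [← zpow_natCast, ← zpow_mul, mul_comm, zpow_mul, zpow_natCast, pow_two, hesq, one_zpow]
  have hVe : V ≤ centralizer (zpowers e : Set G) := by
    intro v hv
    rw [mem_centralizer_iff]
    rintro _ ⟨k, rfl⟩
    have h1 : Commute e v := (mem_centralizer_iff.1 (h.ws_comm hT (h.V_le_ws hTV hv)) e he)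
    exact h1.zpow_left k
  have hX : EA (V ⊔ zpowers e) := h.EA_V.sup hEe hVe
  have h1 := hA.off (V ⊔ zpowers e) (sup_le hVU (zpowers_le.2 heU)) hX
  -- the centraliser of `X` in `A`
  have h2 : A ⊓ centralizer (V : Set G) ≤ A ⊓ centralizer ((V ⊔ zpowers e : Subgroup G) : Set G) := by
    refine le_inf inf_le_left ?_
    rintro b ⟨hb, hbV⟩
    have h3 : V ⊔ zpowers e ≤ centralizer ({b} : Set G) := by
      refine sup_le (fun v hv => ?_) (zpowers_le.2 ?_)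
      · rw [mem_centralizer_singleton_iff]
        exact mem_centralizer_iff.1 hbV v hv
      · rw [mem_centralizer_singleton_iff]
        exact (heQ b hb hbV).symm
    rw [mem_centralizer_iff]
    exact fun x hx => mem_centralizer_singleton_iff.1 (h3 hx)
  -- the fixed points of `A` in `X`
  have h3 : (V ⊔ zpowers e) ⊓ centralizer (A : Set G) ≤ Z := by
    rintro u ⟨hu, huA⟩
    by_cases huV : u ∈ V
    · exact inf_cent_le h hAB hAV ⟨huV, huA⟩
    exfalso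
    obtain ⟨a, ha, haV⟩ := SetLike.not_le_iff_exists.1 hAV
    have hVT := h.V_le_ws hTV
    have hue : u * e ∈ V := by
      rcases mem_sup_pow hesq (fun v hv => (mem_centralizer_iff.1 (hVe hv) e (mem_zpowers e)).symm) hu with h4 | h4
      · exact absurd h4 huV
      · exact h4
    have huT : u ∈ ws V T := by
      have h4 := mul_mem (hVT hue) (inv_mem he)
      rwa [mul_inv_cancel_right] at h4
    have hua : a * u * a⁻¹ = u := by
      rw [mul_inv_eq_iff_eq_mul]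
      exact mem_centralizer_iff.1 huA a ha
    have huT' : u ∈ ws V (cj a T) := by
      rw [ws_cj, ← hua]
      exact conj_mem_cj huT
    have haT : T ≠ cj a T := by
      intro h4
      have h5 : a ∈ normalizer (T : Set G) := cj_eq_iff.1 h4.symm
      obtain ⟨y, hy, hy1⟩ := h.pt_ne_bot hT
      have h6 : a * y * a⁻¹ * y⁻¹ ∈ T := mul_mem ((mem_normalizer_iff.1 h5 y).1 hy) (inv_mem hy)
      have h7 : a * y * a⁻¹ * y⁻¹ ∈ Z := h.act a (hAB ha) y (hTV hy)
      have h8 : a * y * a⁻¹ * y⁻¹ = 1 := by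
        by_contra h9
        exact hTZ (h.pts_eq hT h.isCj_self h6 h7 h9)
      have h9 : a * y = y * a := by
        have := mul_inv_eq_one.1 h8
        rwa [mul_inv_eq_iff_eq_mul] at this
      have h10 : y ∉ Z := fun h11 => hTZ (h.pts_eq hT h.isCj_self hy h11 hy1)
      exact haV (h.mem_cent_of (hAB ha) (hTV hy) h10 h9)
    have haTV : cj a T ≤ V := by
      have h1 := cj_le_cj (g := a) |>.2 hTV
      rwa [A_norm h hW hAB hT hTV he ha] at h1
    have huI : u ∈ IV V Z := by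
      rw [← h.IV_eq hf hT hTV (hT.cj a) haTV haT]
      exact ⟨huT, huT'⟩
    apply heI
    have h4 := mul_mem (inv_mem huI) (h.V_le_IV hue)
    rwa [inv_mul_cancel_left] at h4
  -- the order of `X`
  have h4 : 2 * Nat.card V ≤ Nat.card (V ⊔ zpowers e : Subgroup G) := by
    have h5 := Cfsg.Agent.Omega.NoFF.ThmJ.card_mul_relIndex (le_sup_left : V ≤ V ⊔ zpowers e)
    rw [← h5, mul_comm]
    refine Nat.mul_le_mul le_rfl ?_
    have h6 : V.relIndex (V ⊔ zpowers e) ≠ 1 := by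
      intro h7
      rw [Subgroup.relIndex_eq_one] at h7
      exact heV (h7 (le_sup_right (a := V) (mem_zpowers e)))
    have h7 : V.relIndex (V ⊔ zpowers e) ≠ 0 := by
      intro h8
      rw [h8, mul_zero] at h5
      exact Nat.card_pos.ne' h5.symm
    omega
  have h5 := card_le_mul h hAB hAV
  have h6 : 0 < Nat.card (A ⊓ centralizer (V : Set G) : Subgroup G) := Nat.card_pos
  have h7 : 0 < Nat.card Z := Nat.card_pos
  have h8 := Subgroup.card_le_of_le h2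
  have h9 := Subgroup.card_le_of_le h3
  rw [h.card] at h4
  have h10 : Nat.card (A ⊓ centralizer (V : Set G) : Subgroup G) * (2 * (Nat.card Z * Nat.card Z)) ≤
      Nat.card (A ⊓ centralizer (V : Set G) : Subgroup G) * Nat.card Z * Nat.card Z :=
    (Nat.mul_le_mul h8 h4).trans (h1.trans (Nat.mul_le_mul h5 h9))
  have h11 : 0 < Nat.card (A ⊓ centralizer (V : Set G) : Subgroup G) * Nat.card Z * Nat.card Z := by positivity
  nlinarith

/-- **THEOREM F, core**: `e ∈ W_T`, `[e, A ∩ C(V)] ≤ T` ⟹ `e ∈ I_V`. -/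
theorem core (hA : Off U A) (hVU : V ≤ U) (heU : ∀ a ∈ A, a * e * a⁻¹ ∈ U) (hf : ¬ kx V Z ≤ centralizer (V : Set G))
    (hAV : ¬ A ≤ centralizer (V : Set G)) (hTZ : T ≠ Z)
    (heQ : ∀ b ∈ A, b ∈ centralizer (V : Set G) → b * e * b⁻¹ * e⁻¹ ∈ T) : e ∈ IV V Z := by
  by_cases hc : ∀ b ∈ A, b ∈ centralizer (V : Set G) → b * e = e * b
  · refine mem_of_cent h hW hAB hT hTV he hA hVU ?_ hf hAV hTZ hc
    have := heU 1 (one_mem A)
    simpa using this
  exfalso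
  push Not at hc
  obtain ⟨b, hb, hbV, hne⟩ := hc
  have hbe := heQ b hb hbV
  have hne' : b * e * b⁻¹ * e⁻¹ ≠ 1 := by
    intro h1
    apply hne
    have := mul_inv_eq_one.1 h1
    rwa [mul_inv_eq_iff_eq_mul] at this
  have h1 := hA.off (XX V A e) (XX_le hVU heU) (XX_EA h hW hAB hT hTV he)
  have h2 := card_ker h hW hAB hT hTV he hA.comm hAV hb hbV hbe
  have h3 := card_range h hW hAB hT hTV he hA hVU hAV hTZ hb hbV hbe hne'
  have h4 := card_A_le h hW hAB hT hTV he hA.comm hAV heQ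
  have h5 := Subgroup.card_mul_index (cb h hW hAB hT hTV he hA.comm hb hbV hbe).ker
  rw [Subgroup.index_ker] at h5
  set k := Nat.card (cb h hW hAB hT hTV he hA.comm hb hbV hbe).ker
  set r := Nat.card (cb h hW hAB hT hTV he hA.comm hb hbV hbe).range
  set c := Nat.card (XX V A e ⊓ centralizer (A : Set G) : Subgroup G) with hc
  set a := Nat.card (A ⊓ centralizer (XX V A e : Set G) : Subgroup G) with ha
  have hc0 : 0 < c := Nat.card_pos
  have ha0 : 0 < a := Nat.card_pos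
  have hZ0 : 0 < Nat.card Z := Nat.card_pos
  have h6 : a * ((Nat.card Z * c) * (2 * Nat.card Z)) ≤ a * Nat.card Z * Nat.card Z * c := by
    calc a * ((Nat.card Z * c) * (2 * Nat.card Z)) ≤ a * (k * r) :=
          Nat.mul_le_mul le_rfl (Nat.mul_le_mul h2 h3)
      _ = a * Nat.card (XX V A e) := by rw [h5]
      _ ≤ Nat.card A * c := h1
      _ ≤ _ := Nat.mul_le_mul h4 le_rfl
  have h7 : 0 < a * Nat.card Z * Nat.card Z * c := by positivity
  nlinarith

end main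

/-! ### From `Z` to another point -/

section transport

variable (h : PB S B P V Z)
include h

/-- `C_B(V) = C_S(V)` is a Sylow 2-subgroup of `C_G(V)`: some `g ∈ N_G(V)` normalises it and maps `Z` to `T`. -/
theorem exists_norm {T : Subgroup G} (hT : IsCj Z T) (hTV : T ≤ V) :
    ∃ g ∈ normalizer (V : Set G), cj g Z = T ∧
      cj g (B ⊓ centralizer (V : Set G)) = B ⊓ centralizer (V : Set G) := by
  obtain ⟨p, hp, rfl⟩ := h.exists_pt hT hTV
  have hpV : cj p V = V := cj_eq_iff.2 (h.PN hp)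
  have hQ : B ⊓ centralizer (V : Set G) = (S : Subgroup G) ⊓ centralizer (V : Set G) := by
    refine le_antisymm (inf_le_inf_right _ h.BS) (le_inf ?_ inf_le_right)
    rintro s ⟨hs, hsV⟩
    exact h.mem_B s hs fun z hz => (mem_centralizer_iff.1 hsV z (h.ZV hz)).symm
  -- `D = Q^p` lies in `C(V)`
  set Q : Subgroup G := (S : Subgroup G) ⊓ centralizer (V : Set G) with hQd
  rw [hQ]
  have hD : IsPGroup 2 (cj p Q) := (S.isPGroup'.to_le inf_le_left).map _
  have hDV : cj p Q ≤ centralizer (V : Set G) := by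
    rw [cj_inf, cj_centralizer, hpV]
    exact inf_le_right
  have hH : (S : Subgroup G) ≤ centralizer (V : Set G) ⊔ S := le_sup_right
  obtain ⟨m, hm, hmD⟩ := exists_le_conj hH hD (hDV.trans le_sup_left)
  have hSN : (S : Subgroup G) ≤ normalizer ((centralizer (V : Set G) : Subgroup G) : Set G) :=
    (h.SP.trans h.PN).trans (by
      intro n hn
      rw [← cj_eq_iff, cj_centralizer, cj_eq_iff.2 hn])
  have hmV : m ∈ normalizer (V : Set G) :=
    (sup_le (centralizer_le_normalizer _) (h.SP.trans h.PN) : centralizer (V : Set G) ⊔ (S : Subgroup G) ≤ _) hm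
  have h1 : cj p Q = cj m Q := by
    refine Subgroup.eq_of_le_of_card_ge ?_ (by rw [card_cj, card_cj])
    rw [hQd, cj_inf (g := m), cj_centralizer, cj_eq_iff.2 hmV]
    exact le_inf hmD hDV
  have h2 : m ∈ (centralizer (V : Set G) : Set G) * ((S : Subgroup G) : Set G) := by
    rw [← Subgroup.coe_mul_of_right_le_normalizer_left _ _ hSN]
    exact hm
  obtain ⟨c, hc, s, hs, rfl⟩ := Set.mem_mul.1 h2
  have hsQ : cj s Q = Q := by
    rw [hQd, cj_inf, cj_centralizer, cj_eq_iff.2 ((h.SP.trans h.PN) hs), cj_eq_iff.2 (Subgroup.le_normalizer hs)]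
  refine ⟨c⁻¹ * p, mul_mem (inv_mem (centralizer_le_normalizer _ hc)) (h.PN hp), ?_, ?_⟩
  · rw [← cj_cj, cj_eq_iff]
    refine inv_mem (centralizer_le_normalizer _ (centralizer_le ?_ hc))
    exact hTV
  · rw [← cj_cj, h1, ← cj_cj, hsQ, cj_cj, inv_mul_cancel, cj_one]

/-- **THEOREM F**: `e ∈ W_Z`, `[e, C_B(V)] ≤ Z` ⟹ `e ∈ I_V`.  (`A` : a witness for `J(S) ≰ O₂(P)`, or for a level;
`heU` : the `N_G(V)`-conjugates of `e` lie in `U`.) -/
theorem mem_IV (hW : WComm V Z) (hAB : A ≤ B) (hA : Off U A) (hVU : V ≤ U) (hf : ¬ kx V Z ≤ centralizer (V : Set G))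
    (hAV : ¬ A ≤ centralizer (V : Set G)) {e : G} (he : e ∈ ws V Z)
    (heU : ∀ g ∈ normalizer (V : Set G), g * e * g⁻¹ ∈ U)
    (heQ : ∀ b ∈ B, b ∈ centralizer (V : Set G) → b * e * b⁻¹ * e⁻¹ ∈ Z) : e ∈ IV V Z := by
  obtain ⟨T, hT, hTV, hTZ⟩ := h.exists_second h.isCj_self h.ZV
  obtain ⟨g, hg, hgT, hgQ⟩ := exists_norm h hT hTV
  have h1 : g * e * g⁻¹ ∈ IV V Z := by
    refine core h hW hAB hT hTV (e := g * e * g⁻¹) ?_ hA hVU (fun a ha => ?_) hf hAV hTZ (fun b hb hbV => ?_)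
    · rw [← hgT, ws_cj]
      exact conj_mem_cj he
    · have h2 := heU (a * g) (mul_mem (h.PN (h.BP (hAB ha))) hg)
      have e1 : a * g * e * (a * g)⁻¹ = a * (g * e * g⁻¹) * a⁻¹ := by group
      rwa [e1] at h2
    · have h2 : b ∈ cj g (B ⊓ centralizer (V : Set G)) := by
        rw [hgQ]
        exact ⟨hAB hb, hbV⟩
      rw [mem_cj] at h2
      have h3 := conj_mem_cj (g := g) (heQ _ h2.1 h2.2)
      rw [hgT] at h3
      have e1 : g * (g⁻¹ * b * g * e * (g⁻¹ * b * g)⁻¹ * e⁻¹) * g⁻¹ = b * (g * e * g⁻¹) * b⁻¹ * (g * e * g⁻¹)⁻¹ := by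
        group
      rwa [e1] at h3
  have h2 := normalizer_le_IV V Z (inv_mem hg)
  have h3 := (mem_normalizer_iff.1 h2 _).1 h1
  have e1 : g⁻¹ * (g * e * g⁻¹) * g⁻¹⁻¹ = e := by group
  rwa [e1] at h3

/-- **THEOREM F** for `J(S) ≰ C(V)`. -/
theorem mem_IV_of_max (hW : WComm V Z) (hAB : A ≤ B) (hA : MaxEA A) (hf : ¬ kx V Z ≤ centralizer (V : Set G))
    (hAV : ¬ A ≤ centralizer (V : Set G)) {e : G} (he : e ∈ ws V Z)
    (heQ : ∀ b ∈ B, b ∈ centralizer (V : Set G) → b * e * b⁻¹ * e⁻¹ ∈ Z) : e ∈ IV V Z :=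
  mem_IV h hW hAB (Off.of_max hA) le_top hf hAV he (fun _ _ => mem_top _) heQ

end transport

/-- a nontrivial section `B / A` has a nontrivial fixed point under a 2-group -/
theorem exists_fixed_mod {T B A : Subgroup G} (hT : IsPGroup 2 T) (hBT : B ≤ T)
    (hB : T ≤ normalizer (B : Set G)) (hA : T ≤ normalizer (A : Set G)) (hne : ¬ B ≤ A) :
    ∃ m ∈ B, m ∉ A ∧ ∀ t ∈ T, t * m * t⁻¹ * m⁻¹ ∈ A := by
  have : Fact (Nat.Prime 2) := ⟨Nat.prime_two⟩
  have hnA : (A.subgroupOf T).Normal := normal_subgroupOf_of_le_normalizer hA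
  have hnB : (B.subgroupOf T).Normal := normal_subgroupOf_of_le_normalizer hB
  have hp : IsPGroup 2 (T ⧸ A.subgroupOf T) := hT.to_quotient _
  have : Group.IsNilpotent (T ⧸ A.subgroupOf T) := hp.isNilpotent
  let N : Subgroup (T ⧸ A.subgroupOf T) := (B.subgroupOf T).map (QuotientGroup.mk' (A.subgroupOf T))
  have hN : N.Normal := hnB.map _ (QuotientGroup.mk'_surjective _)
  have hN1 : N ≠ ⊥ := by
    intro h
    apply hne
    intro x hx
    have h1 : QuotientGroup.mk' (A.subgroupOf T) ⟨x, hBT hx⟩ ∈ N := ⟨⟨x, hBT hx⟩, hx, rfl⟩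
    rw [h, mem_bot] at h1
    exact (QuotientGroup.eq_one_iff (⟨x, hBT hx⟩ : T)).1 h1
  have h2 := Lib.NormalAbelian.normal_inf_center_ne_bot N hN1
  obtain ⟨⟨y, hy⟩, hy1⟩ := Subgroup.ne_bot_iff_exists_ne_one.1 h2
  obtain ⟨⟨m, hm, rfl⟩, hyc⟩ := mem_inf.1 hy
  refine ⟨m, hm, fun h => hy1 ?_, fun t ht => ?_⟩
  · apply Subtype.ext
    exact (QuotientGroup.eq_one_iff m).2 h
  · have h3 := mem_center_iff.1 hyc (QuotientGroup.mk' (A.subgroupOf T) ⟨t, ht⟩)
    rw [← map_mul, ← map_mul] at h3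
    have h4 : QuotientGroup.mk' (A.subgroupOf T) (⟨t, ht⟩ * m * (⟨t, ht⟩ : T)⁻¹ * m⁻¹) = 1 := by
      rw [mul_assoc, map_mul, h3, ← map_mul]
      rw [show m * ⟨t, ht⟩ * ((⟨t, ht⟩ : T)⁻¹ * m⁻¹) = 1 by group, map_one]
    have h5 := (QuotientGroup.eq_one_iff ((⟨t, ht⟩ : T) * m * (⟨t, ht⟩ : T)⁻¹ * m⁻¹)).1 h4
    exact h5

section fix

variable (h : PB S B P V Z) (hO : OmB B V) (hf : ¬ kx V Z ≤ centralizer (V : Set G))
include h hO hf

/-- `e ∈ I_V`, `[e, C_B(V)] ≤ Z` ⟹ `e ∈ V`. -/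
theorem mem_V_of_IV {e : G} (he : e ∈ IV V Z)
    (heQ : ∀ b ∈ B, b ∈ centralizer (V : Set G) → b * e * b⁻¹ * e⁻¹ ∈ Z) : e ∈ V := by
  by_contra heV
  obtain ⟨v, hv, hvZ⟩ := h.exists_out
  obtain ⟨c, hc, hcV, hcv⟩ := h.F2 hf hO he heV hv
  -- a 2-element with the same commutator
  obtain ⟨m, hm, hm2⟩ := exists_odd_pow c
  have hcomm : ∀ n : ℕ, c ^ n * e * (c ^ n)⁻¹ * e⁻¹ = v ^ n := by
    intro n
    induction n with
    | zero => simp
    | succ n ih =>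
      have h1 : c * v ^ n * c⁻¹ = v ^ n := by
        have := mem_centralizer_iff.1 hcV _ (pow_mem hv n)
        rw [← this, mul_inv_cancel_right]
      calc c ^ (n + 1) * e * (c ^ (n + 1))⁻¹ * e⁻¹ =
          c * (c ^ n * e * (c ^ n)⁻¹ * e⁻¹) * c⁻¹ * (c * e * c⁻¹ * e⁻¹) := by rw [pow_succ']; group
        _ = v ^ (n + 1) := by rw [ih, h1, hcv, pow_succ]
  have hvm : v ^ m = v := by
    obtain ⟨k, rfl⟩ := hm
    rw [pow_add, pow_mul, pow_two, h.Vsq v hv, one_pow, one_mul, pow_one]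
  have hd := hcomm m
  rw [hvm] at hd
  set d := c ^ m with hdef
  have hdX : d ∈ XV V Z := pow_mem hc m
  have hdV : d ∈ centralizer (V : Set G) := pow_mem hcV m
  -- conjugate into `S`
  have hVN : ((XV V Z ⊓ centralizer (V : Set G) : Subgroup G) ⊔ S : Subgroup G) ≤ normalizer (V : Set G) :=
    sup_le (inf_le_left.trans h.XV_le_N) (h.SP.trans h.PN)
  obtain ⟨x, hx, hxd⟩ := exists_le_conj (S := S) (H := (XV V Z ⊓ centralizer (V : Set G) : Subgroup G) ⊔ S)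
    le_sup_right hm2.isPGroup (zpowers_le.2 (mem_sup_left ⟨hdX, hdV⟩))
  have hSN : (S : Subgroup G) ≤ normalizer ((XV V Z ⊓ centralizer (V : Set G) : Subgroup G) : Set G) := by
    intro s hs
    have hsV := (h.SP.trans h.PN) hs
    rw [← cj_eq_iff, cj_inf, cj_centralizer, cj_eq_iff.2 hsV, cj_eq_iff.2 (normalizer_le_XV V Z hsV)]
  have h2 : x ∈ ((XV V Z ⊓ centralizer (V : Set G) : Subgroup G) : Set G) * ((S : Subgroup G) : Set G) := by
    rw [← Subgroup.coe_mul_of_right_le_normalizer_left _ _ hSN]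
    exact hx
  obtain ⟨y, hy, s, hs, rfl⟩ := Set.mem_mul.1 h2
  have hyS : y⁻¹ * d * y ∈ (S : Subgroup G) := by
    have h3 := hxd (mem_zpowers d)
    rw [← cj_cj, cj_eq_iff.2 (Subgroup.le_normalizer hs), mem_cj] at h3
    exact h3
  have hyV : y ∈ centralizer (V : Set G) := hy.2
  have hb : y⁻¹ * d * y ∈ centralizer (V : Set G) := mul_mem (mul_mem (inv_mem hyV) hdV) hyV
  have hbB : y⁻¹ * d * y ∈ B := h.mem_B _ hyS fun z hz => (mem_centralizer_iff.1 hb z (h.ZV hz)).symm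
  have h3 := heQ _ hbB hb
  -- the commutator
  have h4 : y * e * y⁻¹ * e⁻¹ ∈ V := h.XV_act hy.1 he
  have h5 : (y⁻¹ * d * y) * e * (y⁻¹ * d * y)⁻¹ * e⁻¹ = v := by
    set w := y * e * y⁻¹ * e⁻¹ with hw
    have e1 : y * e * y⁻¹ = w * e := by rw [hw]; group
    have h6 : d * w * d⁻¹ = w := by rw [← mem_centralizer_iff.1 hdV _ h4, mul_inv_cancel_right]
    have h7 : y⁻¹ * v * y = v := by
      rw [mul_assoc, mem_centralizer_iff.1 hyV _ hv, inv_mul_cancel_left]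
    calc (y⁻¹ * d * y) * e * (y⁻¹ * d * y)⁻¹ * e⁻¹ = y⁻¹ * (d * (y * e * y⁻¹) * d⁻¹ * (y * e * y⁻¹)⁻¹) * y := by group
      _ = y⁻¹ * (d * w * d⁻¹ * (d * e * d⁻¹ * e⁻¹) * w⁻¹) * y := by rw [e1]; group
      _ = y⁻¹ * (w * v * w⁻¹) * y := by rw [h6, hd]
      _ = y⁻¹ * v * y := by rw [h.Vcomm h4 hv, mul_inv_cancel_right]
      _ = v := h7
  rw [h5] at h3
  exact hvZ h3

/-! ### Consequences -/

/-- THEOREM F as a property of `B V Z`. -/
def FixIV (B V Z : Subgroup G) : Prop :=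
  ∀ e ∈ ws V Z, (∀ b ∈ B, b ∈ centralizer (V : Set G) → b * e * b⁻¹ * e⁻¹ ∈ Z) → e ∈ IV V Z

variable (hF : FixIV B V Z)
include hF

/-- `C_{W_Z / Z}(C_B(V)) = V / Z` -/
theorem fix {e : G} (he : e ∈ ws V Z)
    (heQ : ∀ b ∈ B, b ∈ centralizer (V : Set G) → b * e * b⁻¹ * e⁻¹ ∈ Z) : e ∈ V :=
  mem_V_of_IV h hO hf (hF e he heQ) heQ

/-- A subgroup `Z < D ≤ W_Z` normalised by `B` contains an element of `V - Z`. -/
theorem exists_line {D : Subgroup G} (hD : D ≤ ws V Z) (hDB : B ≤ normalizer (D : Set G)) (hne : ¬ D ≤ Z) :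
    ∃ v ∈ D, v ∈ V ∧ v ∉ Z := by
  obtain ⟨v, hvD, hvZ, hv⟩ := exists_fixed_mod (T := B) (h.isPGroup_of_le le_rfl) (hD.trans h.ws_le_B) hDB
    (h.B_le_N) hne
  exact ⟨v, hvD, fix h hO hf hF (hD hvD) fun b hb _ => hv b hb, hvZ⟩

/-- **`K^` is full**: `{[k, w] : k ∈ K_Z} = Z` for every `w ∈ W_Z - Z`. -/
theorem kx_full {w z : G} (hw : w ∈ ws V Z) (hwZ : w ∉ Z) (hz : z ∈ Z) : ∃ k ∈ kx V Z, k * w * k⁻¹ * w⁻¹ = z := by
  let R : Subgroup G :=
    { carrier := {z | ∃ k ∈ kx V Z, k * w * k⁻¹ * w⁻¹ = z}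
      one_mem' := ⟨1, one_mem _, by group⟩
      mul_mem' := by
        rintro _ _ ⟨a, ha, rfl⟩ ⟨b, hb, rfl⟩
        refine ⟨a * b, mul_mem ha hb, ?_⟩
        have h1 := (mem_kx.1 ha).1 _ ((mem_kx.1 hb).2 w hw)
        have h2 := h.Vcomm (h.ZV ((mem_kx.1 ha).2 w hw)) (h.ZV ((mem_kx.1 hb).2 w hw))
        calc a * b * w * (a * b)⁻¹ * w⁻¹ = a * (b * w * b⁻¹ * w⁻¹) * a⁻¹ * (a * w * a⁻¹ * w⁻¹) := by group
          _ = (b * w * b⁻¹ * w⁻¹) * (a * w * a⁻¹ * w⁻¹) := by rw [h1, mul_inv_cancel_right]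
          _ = _ := h2.symm
      inv_mem' := by
        rintro _ ⟨a, ha, rfl⟩
        refine ⟨a⁻¹, inv_mem ha, ?_⟩
        have h1 := (mem_kx.1 ha).1 _ (Z.inv_mem ((mem_kx.1 ha).2 w hw))
        calc a⁻¹ * w * a⁻¹⁻¹ * w⁻¹ = a⁻¹ * ((a * w * a⁻¹ * w⁻¹)⁻¹ * a) := by group
          _ = a⁻¹ * (a * (a * w * a⁻¹ * w⁻¹)⁻¹) := by rw [h1]
          _ = _ := by group }
  have hRZ : R ≤ Z := by
    rintro _ ⟨k, hk, rfl⟩
    exact (mem_kx.1 hk).2 w hw
  let D : Subgroup G :=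
    { carrier := {u | u ∈ ws V Z ∧ ∀ k ∈ kx V Z, k * u * k⁻¹ * u⁻¹ ∈ R}
      one_mem' := ⟨one_mem _, fun k _ => by simp⟩
      mul_mem' := by
        rintro a b ⟨ha, ha'⟩ ⟨hb, hb'⟩
        refine ⟨mul_mem ha hb, fun k hk => ?_⟩
        have h1 : a * (k * b * k⁻¹ * b⁻¹) = (k * b * k⁻¹ * b⁻¹) * a :=
          (mem_centralizer_iff.1 (h.Wcomm ha) _ (h.Z_le_ws ((mem_kx.1 hk).2 b hb))).symm
        have e1 : k * (a * b) * k⁻¹ * (a * b)⁻¹ = (k * a * k⁻¹ * a⁻¹) * (a * (k * b * k⁻¹ * b⁻¹) * a⁻¹) := by group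
        rw [e1, h1, mul_inv_cancel_right]
        exact mul_mem (ha' k hk) (hb' k hk)
      inv_mem' := by
        rintro a ⟨ha, ha'⟩
        refine ⟨inv_mem ha, fun k hk => ?_⟩
        have h1 : a * (k * a * k⁻¹ * a⁻¹) = (k * a * k⁻¹ * a⁻¹) * a :=
          (mem_centralizer_iff.1 (h.Wcomm ha) _ (h.Z_le_ws ((mem_kx.1 hk).2 a ha))).symm
        have e1 : k * a⁻¹ * k⁻¹ * a⁻¹⁻¹ = (a⁻¹ * ((k * a * k⁻¹ * a⁻¹) * a))⁻¹ := by group
        rw [e1, ← h1, inv_mul_cancel_left]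
        exact inv_mem (ha' k hk) }
  have hDB : B ≤ normalizer (D : Set G) := by
    have key : ∀ b ∈ B, ∀ u ∈ D, b * u * b⁻¹ ∈ D := by
      rintro b hb u ⟨hu, hu'⟩
      refine ⟨(mem_normalizer_iff.1 (normalizer_le_ws V Z (h.B_le_N hb)) u).1 hu, fun k hk => ?_⟩
      have hk' : b⁻¹ * k * b ∈ kx V Z := by
        have := (mem_normalizer_iff.1 (normalizer_le_kx V Z (inv_mem (h.B_le_N hb))) k).1 hk
        rwa [inv_inv] at this
      have h1 := hu' _ hk'
      have h2 : k * (b * u * b⁻¹) * k⁻¹ * (b * u * b⁻¹)⁻¹ = b * ((b⁻¹ * k * b) * u * (b⁻¹ * k * b)⁻¹ * u⁻¹) * b⁻¹ := by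
        group
      rw [h2, h.cen _ (hRZ h1) b hb, mul_inv_cancel_right]
      exact h1
    intro b hb
    rw [mem_normalizer_iff]
    refine fun u => ⟨key b hb u, fun hu => ?_⟩
    have := key b⁻¹ (inv_mem hb) _ hu
    simpa [mul_assoc] using this
  obtain ⟨v, hvD, hvV, hvZ⟩ := exists_line h hO hf hF (D := D) (fun u hu => hu.1) hDB
    (fun hle => hwZ (hle ⟨hw, fun k hk => ⟨k, hk, rfl⟩⟩))
  obtain ⟨k, hk, -, hkz⟩ := h.K_act hf hvV hvZ hz
  have := hvD.2 k hk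
  rw [hkz] at this
  exact this

/-- **`N_Z = Z`**: `C_{W_Z}(K_Z) = Z`. -/
theorem cent_kx {w : G} (hw : w ∈ ws V Z) (hc : ∀ k ∈ kx V Z, k * w = w * k) : w ∈ Z := by
  by_contra hwZ
  obtain ⟨z, hz, hz1⟩ := h.pt_ne_bot h.isCj_self
  obtain ⟨k, hk, hkz⟩ := kx_full h hO hf hF hw hwZ hz
  apply hz1
  rw [← hkz, hc k hk, mul_inv_cancel_right, mul_inv_cancel]

/-- `|Z| = 2`: `W_Z / Z` is irreducible. -/
theorem irr_two (hc : Nat.card Z = 2) {D : Subgroup G} (hD : D ≤ ws V Z) (hZD : Z ≤ D)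
    (hDN : normalizer (Z : Set G) ≤ normalizer (D : Set G)) (hne : ¬ D ≤ Z) : D = ws V Z := by
  obtain ⟨v, hvD, hvV, hvZ⟩ := exists_line h hO hf hF hD (h.B_le_N.trans hDN) hne
  have hV : V ≤ D := by
    intro u hu
    have h1 : Nat.card V = 4 := by rw [h.card, hc]
    have h2 := Cfsg.Agent.Omega.NoFF.ThmJ.card_mul_relIndex h.ZV
    have h3 : Z ⊔ zpowers v ≤ V := sup_le h.ZV (zpowers_le.2 hvV)
    have h4 : Z < Z ⊔ zpowers v := lt_of_le_of_ne le_sup_left fun e => hvZ (by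
      rw [e]; exact mem_sup_right (mem_zpowers v))
    have h5 : Nat.card Z < Nat.card (Z ⊔ zpowers v : Subgroup G) := by
      refine lt_of_le_of_ne (Subgroup.card_le_of_le h4.le) fun e => h4.ne ?_
      exact Subgroup.eq_of_le_of_card_ge h4.le e.ge
    have h6 : Nat.card (Z ⊔ zpowers v : Subgroup G) ∣ Nat.card V := Subgroup.card_dvd_of_le h3
    have h7 : Nat.card (Z ⊔ zpowers v : Subgroup G) = 4 := by
      rw [h1] at h6
      rw [hc] at h5
      have := Nat.le_of_dvd (by norm_num) h6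
      interval_cases hn : Nat.card (Z ⊔ zpowers v : Subgroup G)
      · exact absurd h6 (by norm_num)
      · rfl
    have h8 : Z ⊔ zpowers v = V := Subgroup.eq_of_le_of_card_ge h3 (by rw [h1, h7])
    rw [← h8] at hu
    exact (sup_le hZD (zpowers_le.2 hvD) : Z ⊔ zpowers v ≤ D) hu
  refine le_antisymm hD (ws_le fun L hL hZL => ?_)
  obtain ⟨g, rfl⟩ := hL
  -- `Z ≤ V^g`: `Z = (Z^p)^g`
  have hZg : cj g⁻¹ Z ≤ V := cj_le_iff.2 (by rwa [inv_inv]) 
  obtain ⟨p, hp, hpZ⟩ := h.exists_pt (h.isCj_self.cj g⁻¹) hZg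
  have h1 : g * p ∈ normalizer (Z : Set G) := by
    rw [← cj_eq_iff, ← cj_cj, ← hpZ, cj_cj, mul_inv_cancel, cj_one]
  have h2 : cj g V = cj (g * p) V := by rw [← cj_cj, cj_eq_iff.2 (h.PN hp)]
  rw [h2, ← cj_eq_iff.2 (hDN h1), cj_le_cj]
  exact hV

end fix

/-- `FixIV` from `J(S) ≰ O₂(P)` and critical distance `≥ 2`. -/
theorem FixIV.of_max (h : PB S B P V Z) (hf : ¬ kx V Z ≤ centralizer (V : Set G)) (hW : WComm V Z) (hAB : A ≤ B)
    (hA : MaxEA A) (hAV : ¬ A ≤ centralizer (V : Set G)) : FixIV B V Z :=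
  fun _ he heQ => mem_IV_of_max h hW hAB hA hf hAV he heQ

end Cfsg.Agent.Omega.NO3S.FixW
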