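import Cfsg.Agent.Omega.NO3S.HypL
import Cfsg.Agent.MinSimple.Geo

/-!
# `FullK` for `|V_P| = 4` in the language of `MinSimple/Geo.lean`

* `ws_eq`, `kq_eq` : `Geo.ws V z = PT.ws V ⟨z⟩`, `Geo.kq V z = PT.kx V ⟨z⟩`;
* `zc_eq` : `Ω₁(Z(S)) = ⟨z⟩` if `|V_P| = 4`;
* `fullK_iff` : `FullK V_P Ω₁(Z(S))` iff `N_z = z`, i.e. every `w ∈ W_z` centralised by `kq V_P z` is in `⟨z⟩`.
-/

set_option autoImplicit false

namespace Cfsg.Agent.Omega.NO3S.FullTwo

open Subgroup Cfsg Cfsg.Agent.ZN Cfsg.Agent.Omega.MinPar Cfsg.Agent.MinSimple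
open Cfsg.Agent.MinSimple.VModule (zc_le_zl zc_sq)

universe u

section basic

variable {G : Type*} [Group G]

theorem cj_eq (g : G) (H : Subgroup G) : ChoiceBase.cj g H = PT.cj g H := by
  ext x
  rw [PT.mem_cj, ChoiceBase.mem_cj]

theorem ws_eq (V : Subgroup G) (z : G) : Geo.ws V z = PT.ws V (zpowers z) := by
  have h : Geo.lines V z = {L | PT.IsCj V L ∧ zpowers z ≤ L} := by
    ext L
    constructor
    · rintro ⟨⟨g, hg⟩, hz⟩
      exact ⟨⟨g, hg.trans (cj_eq g V)⟩, zpowers_le.2 hz⟩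
    · rintro ⟨⟨g, hg⟩, hz⟩
      exact ⟨⟨g, hg.trans (cj_eq g V).symm⟩, zpowers_le.1 hz⟩
  show sSup (Geo.lines V z) = sSup {L | PT.IsCj V L ∧ zpowers z ≤ L}
  rw [h]

theorem kq_eq (V : Subgroup G) (z : G) : Geo.kq V z = PT.kx V (zpowers z) := by
  ext c
  constructor
  · rintro ⟨h1, h2, -⟩
    refine ⟨fun x hx => ?_, fun w hw => h2 w (by rw [ws_eq]; exact hw)⟩
    obtain ⟨n, rfl⟩ := mem_zpowers_iff.1 hx
    have h : Commute c z := mem_centralizer_singleton_iff.1 h1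
    exact (h.zpow_right n).eq
  · intro h
    have h' := (PT.kx V (zpowers z)).inv_mem h
    refine ⟨mem_centralizer_singleton_iff.2 (h.1 z (mem_zpowers z)), fun w hw => h.2 w (by rwa [← ws_eq]),
      fun w hw => ?_⟩
    have h1 := h'.2 w (by rwa [← ws_eq])
    rwa [inv_inv] at h1

end basic

variable {G : Type u} [Group G] [Finite G] {S : Sylow 2 G} {P : Subgroup G}

theorem zc_eq (h : Hyp S P) (hc : Nat.card (zl (S : Subgroup G) P) = 4) {z : G} (hz : z ∈ zc (S : Subgroup G))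
    (hz1 : z ≠ 1) : zc (S : Subgroup G) = zpowers z := by
  apply le_antisymm
  · intro x hx
    by_cases hx1 : x = 1
    · rw [hx1]; exact one_mem _
    · rw [eq_of_zc_four h.ctx h.star h.nonLoc hc hz hz1 hx hx1]; exact mem_zpowers z
  · exact zpowers_le.2 hz

theorem card_zc (h : Hyp S P) (hc : Nat.card (zl (S : Subgroup G) P) = 4) : Nat.card (zc (S : Subgroup G)) = 2 := by
  obtain ⟨z, hz1⟩ := Subgroup.ne_bot_iff_exists_ne_one.1
    (MinSimple.Basic.zc_ne_bot S.isPGroup' (h.ctx.sylow_ne_bot S))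
  have hz1' : (z : G) ≠ 1 := fun e => hz1 (Subtype.ext e)
  rw [zc_eq h hc z.2 hz1', Nat.card_zpowers]
  exact orderOf_eq_prime (MinSimple.VModule.zc_sq _ _ z.2) hz1'

/-- **`FullK` for `|V_P| = 4`**: `N_z = z`. -/
theorem fullK_iff (h : Hyp S P) (hc : Nat.card (zl (S : Subgroup G) P) = 4) {z : G}
    (hz : z ∈ zc (S : Subgroup G)) (hz1 : z ≠ 1) :
    FullK (zl (S : Subgroup G) P) (zc (S : Subgroup G)) ↔
      ∀ w ∈ Geo.ws (zl (S : Subgroup G) P) z, (∀ k ∈ Geo.kq (zl (S : Subgroup G) P) z, k * w = w * k) →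
        w ∈ zpowers z := by
  have h2 := card_zc h hc
  rw [zc_eq h hc hz hz1] at h2 ⊢
  have hne : zpowers z ≠ ⊥ := by rw [Ne, zpowers_eq_bot]; exact hz1
  constructor
  · intro hf w hw hk
    exact hf.ntr hne (by rwa [← ws_eq]) fun k hk' => hk k (by rwa [kq_eq])
  · intro hn
    refine fullK_of_ntr h2 fun w hw hk => hn w (by rwa [ws_eq]) fun k hk' => hk k (by rwa [← kq_eq])

end Cfsg.Agent.Omega.NO3S.FullTwo
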