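import Cfsg.Agent.Omega.NO3S.SOne.GamRad
import Cfsg.Agent.Omega.NO3S.Act.NTwo.Plug

/-!
# The sockets `GamRad` and `GamUniq` of the leaf NO-3S, `GammaFF`, closed

* `gamRad K : GamRad K` : (S1) (helper894, `SOne/GamRad.lean`);
* `gamUniq K : GamUniq K` : (S2), (S3).
-/

set_option autoImplicit false

namespace Cfsg.Agent.Omega.NO3S.GamRU

open Subgroup Cfsg Cfsg.Agent.ZN Cfsg.Agent.Omega.MinPar Cfsg.Agent.Omega.Frame Cfsg.Agent.Omega.FrameNOFF

universe u

/-- **(S1)** closed. -/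
theorem gamRad (K : Cls.{u}) : GamRad K := SOne.GamRadPlug.gamRad K

/-- **(S1), local**, closed. -/
theorem sFour : NTwo.SFour.{u} := fun _ _ _ _ _ _ _ w hc h4 => SOne.PlugRad.s1_const w hc h4

/-- **(S2), (S3)** closed. -/
theorem gamUniq (K : Cls.{u}) : GamUniq K := NTwo.gamUniq_of_four sFour K

end Cfsg.Agent.Omega.NO3S.GamRU
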