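import Cfsg.Agent.Omega.NO3S.Basic
import Cfsg.Agent.Omega.NoFF.LemmaW

/-!
# LEMMA W (helper265, #15073) for the leaf NO-3S

`W_y ≤ Q_x = O₂(C_x)` for `d(x, y) < n`; for a critical pair `W_y ≤ Q_p`, `p` the first point of the path;
not both `W_x ≤ Q_y` and `W_y ≤ Q_x`.  For `CritP` (`C_x` = conjugate of `C_G(Z)`) and for `CritN`
(`C_x` = conjugate of `N_G(Z)`).
-/

set_option autoImplicit false

namespace Cfsg.Agent.Omega.NO3S

open Subgroup Cfsg Cfsg.Agent.ZN Cfsg.Agent.Omega.MinPar Cfsg.Agent.Omega.Frame Cfsg.Agent.Omega.FrameNOFF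
open Cfsg.Agent.Omega.NoFF.Lines
open Cfsg.Agent.MinSimple.VModule
open scoped Pointwise

universe u

variable {G : Type u} [Group G] [Finite G] {S : Sylow 2 G} {P : Subgroup G} (h : Hyp S P)
include h

/-- **LEMMA W**, `d(x, y) < n`. -/
theorem Hyp.lemmaW {n k : ℕ} {a b x y : G} (hc : CritP (S : Subgroup G) P n a b) (hk : k < n)
    (hp : Path (CZ (S : Subgroup G)) {P} k x y) :
    MulAut.conj y • WW (S : Subgroup G) P ≤ MulAut.conj x • o2 (CZ (S : Subgroup G)) :=
  h.geo.lemmaW (Set.singleton_nonempty P) hp fun _ hj _ _ hab => hc.min _ (hj.trans_lt hk) _ _ hab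

/-- **LEMMA W**, `d(x, y) = n + 1` critical: `W_y ≤ Q_p` for the first point `p` of the path. -/
theorem Hyp.lemmaW_crit {n : ℕ} {x y p : G} (hc : CritP (S : Subgroup G) P (n + 1) x y)
    (hp : Path (CZ (S : Subgroup G)) {P} n p y) :
    MulAut.conj y • WW (S : Subgroup G) P ≤ MulAut.conj p • o2 (CZ (S : Subgroup G)) :=
  h.geo.lemmaW_crit (Set.singleton_nonempty P) hc hp

theorem Hyp.not_both {n : ℕ} {x y : G} (hc : CritP (S : Subgroup G) P n x y)
    (h1 : MulAut.conj x • WW (S : Subgroup G) P ≤ MulAut.conj y • o2 (CZ (S : Subgroup G)))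
    (h2 : MulAut.conj y • WW (S : Subgroup G) P ≤ MulAut.conj x • o2 (CZ (S : Subgroup G))) : False :=
  h.geo.not_both hc h1 h2

/-- **LEMMA W** for the points `Z^x`, `d(x, y) < n`. -/
theorem Hyp.lemmaWN {n k : ℕ} {a b x y : G} (hc : CritN (S : Subgroup G) P n a b) (hk : k < n)
    (hp : Path (normalizer (zc (S : Subgroup G) : Set G)) {P} k x y) :
    MulAut.conj y • WN (S : Subgroup G) P ≤
      MulAut.conj x • o2 (normalizer (zc (S : Subgroup G) : Set G)) :=
  h.geoN.lemmaW (Set.singleton_nonempty P) hp fun _ hj _ _ hab => hc.min _ (hj.trans_lt hk) _ _ hab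

theorem Hyp.lemmaWN_crit {n : ℕ} {x y p : G} (hc : CritN (S : Subgroup G) P (n + 1) x y)
    (hp : Path (normalizer (zc (S : Subgroup G) : Set G)) {P} n p y) :
    MulAut.conj y • WN (S : Subgroup G) P ≤
      MulAut.conj p • o2 (normalizer (zc (S : Subgroup G) : Set G)) :=
  h.geoN.lemmaW_crit (Set.singleton_nonempty P) hc hp

theorem Hyp.not_bothN {n : ℕ} {x y : G} (hc : CritN (S : Subgroup G) P n x y)
    (h1 : MulAut.conj x • WN (S : Subgroup G) P ≤
      MulAut.conj y • o2 (normalizer (zc (S : Subgroup G) : Set G)))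
    (h2 : MulAut.conj y • WN (S : Subgroup G) P ≤
      MulAut.conj x • o2 (normalizer (zc (S : Subgroup G) : Set G))) : False :=
  h.geoN.not_both hc h1 h2

end Cfsg.Agent.Omega.NO3S
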