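import Cfsg.Agent.Omega.TwoFFour.SitNO
import Cfsg.Agent.Omega.TwoFFour.Known
import Cfsg.Agent.Omega.Node.NO3S

/-!
# NO-3S, `q ≥ 4`, `|Z| = q`, critical distance 1: `OneQ` from `OneSz`

`OneSz K` : `W / Z` is the natural module for a normal subgroup `Sz(q)` of `N_G(Z) / C`, `W = ⟨V^{N_G(Z)}⟩`;
`oneQ : Bender → St1144 → OneSz K → OneQ K` : THEOREM 2F4 (`Omega/TwoFFour`).  The minimal parabolic subgroups lie
in `N_G(Z)` or in `N_G(V)` by `Uniq`.
-/

set_option autoImplicit false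

namespace Cfsg.Agent.Omega.NO3S

open Subgroup Cfsg Cfsg.Agent.ZN Cfsg.Agent.Omega.MinPar Cfsg.Agent.Omega.Frame Cfsg.Agent.Omega.FrameNOFF
open Cfsg.Agent.Omega.NoFF.Lines Cfsg.Agent.Omega.NatPair
open Cfsg.Agent.MinSimple.VModule
open Cfsg.Agent.LieRecognition.SzMatrix (Good)
open Cfsg.Agent.Omega.TwoFFour (SzMod)

universe u

/-- **the structure of `N_G(Z)`**: `W / Z` is natural for `Sz(q)` -/
def OneSz (K : Cls.{u}) : Prop :=
  ∀ (G : Type u) [Group G] [Finite G], K G → ∀ (S : Sylow 2 G) (P : Subgroup G), HypJ S P →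
    ∀ (F : Type) [Field F] [Finite F] [CharP F 2], 4 ≤ Nat.card F →
      NatP F (zl (S : Subgroup G) P) P → Nat.card (zc (S : Subgroup G)) = Nat.card F → Uniq (S : Subgroup G) P →
      ∀ y : G, CritN (S : Subgroup G) P 1 1 y →
        (∃ (θ : F →+* F) (e m : ℕ) (H : Good F θ e), 1 ≤ m ∧ Nat.card F = 2 ^ (2 * m + 1) ∧
          Nonempty (SzMod H (normalizer (zc (S : Subgroup G) : Set G)) (WN (S : Subgroup G) P)
            (zc (S : Subgroup G)))) ∨ IsKnownSimple' G

/-- the minimal parabolic subgroups lie in `N_G(Z)` or in `N_G(V)` -/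
theorem Uniq.par_le {G : Type u} [Group G] {S P : Subgroup G} (hu : Uniq S P) {R : Subgroup G} (hR : IsPar S R) :
    R ≤ normalizer (zc S : Set G) ⊔ normalizer (zl S P : Set G) := by
  by_cases h1 : R ≤ normalizer (zc S : Set G)
  · exact h1.trans le_sup_left
  · have h2 : zl S R = zl S P := hu.eq R ⟨hR, h1⟩
    rw [← h2]
    exact (le_normalizer_zl _ _).trans le_sup_right

/-- `C_G(v)` is of characteristic 2 -/
theorem char2_cen {G : Type u} [Group G] [Finite G] {S : Sylow 2 G} (hG : IsCharacteristicTwoType G) :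
    ∀ v ∈ zc (S : Subgroup G), v ≠ 1 → centralizer ({v} : Set G) ⊓ centralizer (o2 (centralizer ({v} : Set G)) : Set G) ≤
      o2 (centralizer ({v} : Set G)) := by
  intro v hv hv1
  obtain ⟨h1, h2, h3⟩ := mem_zc.1 hv
  refine (isLoc_centralizer S h3 hv1 fun s hs => ?_).char2 S hG
  rw [mem_centralizer_singleton_iff]
  exact h2 s hs

/-- **`OneQ`** -/
theorem oneQ {K : Cls.{u}} (hB : RootLemma.Bender.{u}) (h44 : Exits.St1144.{u}) (h : OneSz K) : OneQ K := by
  intro G _ _ hK S P hJ F _ _ _ hF M hZ hu y hc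
  rcases h G hK S P hJ F hF M hZ hu y hc with ⟨θ, e, m, H, hm, hFc, ⟨M'⟩⟩ | h1
  · obtain ⟨s, -⟩ := TwoFFour.exists_sit hJ.toHyp hF M hZ hc hm hFc rfl M'
    exact s.known_of_par hB h44 hJ.ctx (char2_cen hJ.ctx.char2) hJ.full
      ((normalizer_le_normalizer_zc _).trans le_sup_left) fun R hR => hu.par_le hR
  · exact h1

end Cfsg.Agent.Omega.NO3S
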