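import Cfsg.Agent.Omega.NO3b.TI

/-!
# THEOREM TI-NAT (helper619, bb OMEGA #16825): natural lines which meet nontrivially commute

`S` a Sylow 2-subgroup of `G`, `Z = Ω₁(Z(S))`, `V` a natural line with point `Z`: `|V| = |Z|²`, every
`s ∈ S - C_S(V)` has `C_V(s) = Z = [V, s]`.  No hypothesis on `J(S)`, no nonlocality, no torus.

* `NLine S V` : the hypotheses;
* `NLine.core` : a group `D < Z`, maximal such that two lines on points above `D` do not commute, has
  `V ≤ O₂(C_G(D))`;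
* `NLine.le_o2` : `V ≤ O₂(C_G(D))` for every `1 ≠ D ≤ Z`;
* `NLine.ti` : `1 ≠ D ≤ Z^a ∩ Z^b` implies that `V^a` and `V^b` commute.
-/

set_option autoImplicit false

namespace Cfsg.Agent.Omega.NO3S.TINat

open Subgroup Cfsg Cfsg.Agent.ZN Cfsg.Agent.ZN.ChoiceBase Cfsg.Agent.ZN.ChoiceSit
open Cfsg.Agent.Omega.NO3b.EZero Cfsg.Agent.Omega.NO3b.TI
open Cfsg.Agent.MinSimple.EmptyTI (zc_cj)
open Cfsg.Agent.Omega.NO3S.NotFF (le_normalizer_of_forall conj_mem)

universe u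

variable {G : Type u} [Group G]

/-- The hypotheses of THEOREM TI-NAT. -/
structure NLine [Finite G] (S : Sylow 2 G) (V : Subgroup G) : Prop where
  char2 : IsCharacteristicTwoType G
  sq : ∀ v ∈ V, v ^ 2 = 1
  comm : V ≤ centralizer (V : Set G)
  Z_le : zc (S : Subgroup G) ≤ V
  norm : (S : Subgroup G) ≤ normalizer (V : Set G)
  /-- `[V, S] ≤ Z` -/
  act : ∀ s ∈ (S : Subgroup G), ∀ v ∈ V, s * v * s⁻¹ * v⁻¹ ∈ zc (S : Subgroup G)
  /-- `C_V(s) = Z` if `s` does not centralise `V` -/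
  free : ∀ s ∈ (S : Subgroup G), ∀ v ∈ V, v ∉ zc (S : Subgroup G) → s * v = v * s →
    s ∈ centralizer (V : Set G)
  card : Nat.card V = Nat.card (zc (S : Subgroup G)) * Nat.card (zc (S : Subgroup G))
  /-- `V^n`, `n ∈ N_G(Z)`, lies in `O₂(C_G(Z))` as soon as `V` does -/
  low : V ≤ o2 (centralizer (zc (S : Subgroup G) : Set G))
  noff : ∀ g : G, V ≤ normalizer ((cj g V : Subgroup G) : Set G) → cj g V ≤ normalizer (V : Set G) →
    V ≤ centralizer ((cj g V : Subgroup G) : Set G)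

/-- `V` and `V^g` do not commute, and `1 ≠ D` lies in their points `Z` and `Z^g`. -/
def Bad [Finite G] (S : Sylow 2 G) (V D : Subgroup G) : Prop :=
  D ≠ ⊥ ∧ D ≤ zc (S : Subgroup G) ∧ ∃ g : G, D ≤ cj g (zc (S : Subgroup G)) ∧
    ¬ V ≤ centralizer ((cj g V : Subgroup G) : Set G)

/-- Two involutions which generate a group that is not a 2-group. -/
theorem exists_pow_ne [Finite G] {X : Subgroup G} {v : G} (hv : v ∈ X) (hv2 : v * v = 1) (hvO : v ∉ o2 X) :
    ∃ g ∈ X, (v * (g * v * g⁻¹)) ^ 4 ≠ 1 := by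
  by_contra hcon
  push Not at hcon
  exact hvO (mem_o2_of_conj hv hv2 hcon)

theorem pow_four {v w : G} (hv : v * v = 1) (hw : w * w = 1)
    (h : w * (v * w * v⁻¹) = v * w * v⁻¹ * w) : (v * w) ^ 4 = 1 := by
  have hvi : v⁻¹ = v := inv_eq_of_mul_eq_one_left hv
  rw [hvi] at h
  have e : (v * w) ^ 4 = (v * w * v * w) * (v * w * v * w) := by
    rw [show (4 : ℕ) = 2 * 2 from rfl, pow_mul, pow_two, pow_two]; group
  rw [e]
  nth_rewrite 1 [← h]
  calc w * (v * w * v) * (v * w * v * w) = w * v * w * (v * v) * w * v * w := by group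
    _ = w * v * (w * w) * v * w := by rw [hv]; group
    _ = w * (v * v) * w := by rw [hw]; group
    _ = 1 := by rw [hv, mul_one, hw]

/-- The other form. -/
theorem pow_four' {v w : G} (hv : v * v = 1) (hw : w * w = 1)
    (h : v * (w * v * w⁻¹) = w * v * w⁻¹ * v) : (v * w) ^ 4 = 1 := by
  have h1 := pow_four hw hv h
  have hvi : v⁻¹ = v := inv_eq_of_mul_eq_one_left hv
  have hwi : w⁻¹ = w := inv_eq_of_mul_eq_one_left hw
  have e : (v * w)⁻¹ = w * v := by rw [mul_inv_rev, hvi, hwi]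
  rw [← inv_inv (v * w), e, inv_pow, h1, inv_one]

theorem card_lt_of_lt [Finite G] {A B : Subgroup G} (h : A < B) : Nat.card A < Nat.card B := by
  refine lt_of_le_of_ne (Subgroup.card_le_of_le h.le) fun h2 => ?_
  exact h.ne (Subgroup.eq_of_le_of_card_ge h.le h2.ge)

/-- A 2-subgroup of `N_G(Z)`, `Z = Ω₁(Z(S))`, centralises `Z`. -/
theorem two_cent [Finite G] (S : Sylow 2 G) {A : Subgroup G} (hA : IsPGroup 2 A)
    (hn : A ≤ normalizer (zc (S : Subgroup G) : Set G)) : A ≤ centralizer (zc (S : Subgroup G) : Set G) := by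
  obtain ⟨T, hT, hAT⟩ := exists_syl hA hn
  obtain ⟨x, hx, hxT⟩ := syl_conj
    (MinSimple.EmptyTI.syl_of_le (S := S) (le_normalizer_zc (S : Subgroup G))) hT
  have h1 := cj_mono x (MinSimple.VModule.le_centralizer_zc (S : Subgroup G))
  rw [hxT, cj_centralizer, mem_normalizer_iff_cj.1 hx] at h1
  exact hAT.trans h1

theorem two_cent_mem [Finite G] (S : Sylow 2 G) {e : G} (he : e * e = 1)
    (hn : ∀ z ∈ zc (S : Subgroup G), e * z * e⁻¹ ∈ zc (S : Subgroup G)) {z : G}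
    (hz : z ∈ zc (S : Subgroup G)) : e * z * e⁻¹ = z := by
  have h1 : e ∈ normalizer (zc (S : Subgroup G) : Set G) := by
    refine mem_normalizer_of_cj_le fun x hx => ?_
    have := hn _ (mem_cj.1 hx)
    have e1 : e * (e⁻¹ * x * e) * e⁻¹ = x := by group
    rwa [e1] at this
  have h2 : IsPGroup 2 (zpowers e) := by
    intro x
    obtain ⟨k, hk⟩ := mem_zpowers_iff.1 x.2
    refine ⟨1, Subtype.ext ?_⟩
    have : ((x : G)) ^ 2 = 1 := by
      rw [← hk, ← zpow_natCast, ← zpow_mul, mul_comm, zpow_mul]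
      have : e ^ ((2 : ℕ) : ℤ) = 1 := by rw [zpow_natCast, pow_two, he]
      rw [this, one_zpow]
    simpa using this
  have h3 := two_cent S h2 (zpowers_le.2 h1) (mem_zpowers e)
  rw [mul_inv_eq_iff_eq_mul]
  exact (mem_centralizer_iff.1 h3 z hz).symm

namespace NLine

variable [Finite G] {S : Sylow 2 G} {V : Subgroup G} (h : NLine S V)
include h

theorem sqm {v : G} (hv : v ∈ V) : v * v = 1 := by rw [← pow_two]; exact h.sq v hv

theorem vcomm {v w : G} (hv : v ∈ V) (hw : w ∈ V) : v * w = w * v :=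
  (mem_centralizer_iff.1 (h.comm hv) w hw).symm

/-- for `s ∈ S - C_S(V)` the map `v ↦ [s, v]`, `V → Z`, is onto -/
theorem surj {s : G} (hs : s ∈ (S : Subgroup G)) (hsV : s ∉ centralizer (V : Set G)) {z : G}
    (hz : z ∈ zc (S : Subgroup G)) : ∃ v ∈ V, s * v * s⁻¹ * v⁻¹ = z := by
  let φ : V →* (zc (S : Subgroup G)) :=
    { toFun := fun v => ⟨s * v * s⁻¹ * (v : G)⁻¹, h.act s hs v v.2⟩
      map_one' := Subtype.ext (by simp)
      map_mul' := by
        intro a b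
        apply Subtype.ext
        change s * ((a : G) * b) * s⁻¹ * ((a : G) * b)⁻¹ =
          (s * a * s⁻¹ * (a : G)⁻¹) * (s * b * s⁻¹ * (b : G)⁻¹)
        have h1 := h.vcomm (h.Z_le (h.act s hs b b.2)) (V.inv_mem a.2)
        calc s * ((a : G) * b) * s⁻¹ * ((a : G) * b)⁻¹
            = s * a * s⁻¹ * ((s * b * s⁻¹ * (b : G)⁻¹) * (a : G)⁻¹) := by group
          _ = s * a * s⁻¹ * ((a : G)⁻¹ * (s * b * s⁻¹ * (b : G)⁻¹)) := by rw [h1]
          _ = _ := by group }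
  have hφ : ∀ v : V, (φ v : G) = s * v * s⁻¹ * (v : G)⁻¹ := fun _ => rfl
  have hker : Nat.card φ.ker ≤ Nat.card (zc (S : Subgroup G)) := by
    refine Nat.card_le_card_of_injective (fun a : φ.ker => (⟨((a : V) : G), ?_⟩ : zc (S : Subgroup G))) ?_
    · by_contra hcon
      refine hsV (h.free s hs _ (a : V).2 hcon ?_)
      have h1 : (φ (a : V) : G) = 1 := congrArg Subtype.val a.2
      rw [hφ, mul_inv_eq_one, mul_inv_eq_iff_eq_mul] at h1
      exact h1
    · intro a b hab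
      have h1 : ((a : V) : G) = ((b : V) : G) := congrArg (fun x : zc (S : Subgroup G) => (x : G)) hab
      exact Subtype.ext (Subtype.ext h1)
  have h1 : Nat.card φ.ker * Nat.card φ.range = Nat.card V := by
    rw [← φ.ker.card_mul_index, Subgroup.index_ker]
  have h2 : Nat.card φ.range ≤ Nat.card (zc (S : Subgroup G)) := Subgroup.card_le_card_group _
  have h3 : Nat.card φ.range = Nat.card (zc (S : Subgroup G)) := by
    refine le_antisymm h2 ?_
    have h4 : Nat.card (zc (S : Subgroup G)) * Nat.card (zc (S : Subgroup G)) ≤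
        Nat.card (zc (S : Subgroup G)) * Nat.card φ.range := by
      rw [← h.card, ← h1]
      exact Nat.mul_le_mul_right _ hker
    exact Nat.le_of_mul_le_mul_left h4 Nat.card_pos
  have h4 : φ.range = ⊤ := Subgroup.eq_top_of_card_eq _ h3
  obtain ⟨v, hv⟩ := (MonoidHom.range_eq_top.1 h4) ⟨z, hz⟩
  exact ⟨v, v.2, by rw [← hφ, hv]⟩

omit h in
theorem o2_le_S {D : Subgroup G} (hD : D ≤ zc (S : Subgroup G)) :
    o2 (centralizer (D : Set G)) ≤ (S : Subgroup G) :=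
  o2_le_syl (MinSimple.EmptyTI.syl_of_le
    ((MinSimple.VModule.le_centralizer_zc (S : Subgroup G)).trans (centralizer_le hD)))

omit h in
/-- `O₂(C_G(D)) ≤ S^g` for `D ≤ Z^g` -/
theorem o2_le_conj {D : Subgroup G} {g : G} (hD : D ≤ cj g (zc (S : Subgroup G))) :
    o2 (centralizer (D : Set G)) ≤ cj g (S : Subgroup G) := by
  have h1 : cj g⁻¹ D ≤ zc (S : Subgroup G) := by rw [cj_le_iff, inv_inv]; exact hD
  have h2 := cj_mono g (o2_le_S (S := S) h1)
  rwa [← o2_cj, cj_centralizer, cj_cj_inv] at h2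

/-- If two lines on points above `D` lie in `O₂(C_G(D))` they commute. -/
theorem comm_of_le {D : Subgroup G} {g : G} (hD : D ≤ zc (S : Subgroup G))
    (hDg : D ≤ cj g (zc (S : Subgroup G))) (h1 : V ≤ o2 (centralizer (D : Set G)))
    (h2 : cj g V ≤ o2 (centralizer (D : Set G))) : V ≤ centralizer ((cj g V : Subgroup G) : Set G) :=
  h.noff g (h1.trans ((o2_le_conj hDg).trans (cj_norm h.norm))) (h2.trans ((o2_le_S hD).trans h.norm))

/-- lines on the same point commute -/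
theorem comm_point {g : G} (hg : zc (S : Subgroup G) ≤ cj g (zc (S : Subgroup G))) :
    V ≤ centralizer ((cj g V : Subgroup G) : Set G) := by
  refine h.comm_of_le le_rfl hg h.low ?_
  have h1 : cj g (zc (S : Subgroup G)) = zc (S : Subgroup G) :=
    (Subgroup.eq_of_le_of_card_ge hg (card_cj g _).le).symm
  have h2 := cj_mono g h.low
  rwa [← o2_cj, cj_centralizer, h1] at h2

omit h in
theorem bad_of {D : Subgroup G} (hD1 : D ≠ ⊥) {a b : G} (ha : D ≤ cj a (zc (S : Subgroup G)))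
    (hb : D ≤ cj b (zc (S : Subgroup G))) (hn : ¬ cj a V ≤ centralizer ((cj b V : Subgroup G) : Set G)) :
    Bad S V (cj a⁻¹ D) := by
  refine ⟨cj_ne_bot hD1, ?_, a⁻¹ * b, ?_, fun h0 => hn ?_⟩
  · rw [cj_le_iff, inv_inv]; exact ha
  · rw [← cj_cj]; exact cj_mono _ hb
  · have h1 := cj_cent (g := a) h0
    rwa [cj_cj, mul_inv_cancel_left] at h1

omit h in
/-- maximality of `D` -/
theorem comm_of_mem {D : Subgroup G} (hD1 : D ≠ ⊥) (hmax : ∀ E, Bad S V E → Nat.card E ≤ Nat.card D)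
    {a b : G} (ha : D ≤ cj a (zc (S : Subgroup G))) (hb : D ≤ cj b (zc (S : Subgroup G))) {x : G}
    (hxa : x ∈ cj a (zc (S : Subgroup G))) (hxb : x ∈ cj b (zc (S : Subgroup G))) (hx : x ∉ D) :
    cj a V ≤ centralizer ((cj b V : Subgroup G) : Set G) := by
  by_contra hcon
  have h1 : D < cj a (zc (S : Subgroup G)) ⊓ cj b (zc (S : Subgroup G)) := by
    refine lt_of_le_not_ge (le_inf ha hb) fun h0 => hx (h0 ⟨hxa, hxb⟩)
  have h2 : cj a (zc (S : Subgroup G)) ⊓ cj b (zc (S : Subgroup G)) ≠ ⊥ := fun h0 => by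
    rw [h0] at h1
    exact hD1 (le_bot_iff.1 h1.le)
  have h3 := hmax _ (bad_of h2 inf_le_left inf_le_right hcon)
  rw [card_cj] at h3
  exact absurd (card_lt_of_lt h1) (not_lt.2 h3)

/-- **The core.** -/
theorem core {D : Subgroup G} (hD1 : D ≠ ⊥) (hDZ : D ≤ zc (S : Subgroup G))
    (hmax : ∀ E, Bad S V E → Nat.card E ≤ Nat.card D) (hlt : ∃ z ∈ zc (S : Subgroup G), z ∉ D) :
    V ≤ o2 (centralizer (D : Set G)) := by
  by_contra hVO
  set X := centralizer (D : Set G) with hX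
  set O := o2 X with hO
  have hDV : D ≤ V := hDZ.trans h.Z_le
  have hVX : V ≤ X := h.comm.trans (centralizer_le hDV)
  have hOS : O ≤ (S : Subgroup G) := o2_le_S hDZ
  have hOn := ChoiceSit.le_normalizer_o2 X
  have hZc : ∀ s ∈ (S : Subgroup G), ∀ z ∈ zc (S : Subgroup G), s * z = z * s := fun s hs z hz =>
    (ChoiceBase.mem_zc.1 hz).2.2 s hs
  have hDp : IsPGroup 2 D := fun x => ⟨1, Subtype.ext (by simpa using h.sq x (hDV x.2))⟩
  have hZO : zc (S : Subgroup G) ≤ O := by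
    refine le_trans ?_ (NOne.LemmaT.char2_centralizer h.char2 hDp hD1)
    refine le_inf (h.Z_le.trans hVX) fun z hz => mem_centralizer_iff.2 fun y hy => ?_
    exact hZc y (hOS hy) z hz
  obtain ⟨v, hv, hvO⟩ := SetLike.not_le_iff_exists.1 hVO
  have hvX := hVX hv
  have hv2 := h.sqm hv
  obtain ⟨g, hg, h4⟩ := exists_pow_ne hvX hv2 hvO
  set w := g * v * g⁻¹ with hw
  have hwX : w ∈ X := mul_mem (mul_mem hg hvX) (inv_mem hg)
  have hwV : w ∈ cj g V := mem_cj_self hv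
  have hw2 : w * w = 1 := by
    calc w * w = g * (v * v) * g⁻¹ := by rw [hw]; group
      _ = 1 := by rw [hv2]; group
  have hDx : ∀ x ∈ X, cj x D = D := fun x hx => cj_eq_of_mem_normalizer (centralizer_le_normalizer _ hx)
  have hDle : ∀ x ∈ X, D ≤ cj x (zc (S : Subgroup G)) := fun x hx => by
    have := cj_mono x hDZ
    rwa [hDx x hx] at this
  have hyO : cj g (zc (S : Subgroup G)) ≤ O := by
    have := cj_mono g hZO
    rwa [hO, cj_eq_of_mem_normalizer (hOn hg)] at this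
  have hdc : ∀ x ∈ X, ∀ d ∈ D, x * d * x⁻¹ = d := fun x hx d hd => by
    rw [← mem_centralizer_iff.1 hx d hd, mul_inv_cancel_right]
  -- (2a)
  have h2a : ∀ z ∈ zc (S : Subgroup G), z⁻¹ * (w * z * w⁻¹) ∈ D → z ∈ D := by
    intro z hz hzD
    by_contra hzn
    have e1 : w * z * w⁻¹ = z * (z⁻¹ * (w * z * w⁻¹)) := by group
    have h5 : w * z * w⁻¹ ∉ D := by
      intro h6
      have h7 := hdc w⁻¹ (inv_mem hwX) _ h6
      have e2 : w⁻¹ * (w * z * w⁻¹) * w⁻¹⁻¹ = z := by group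
      rw [e2] at h7
      exact hzn (h7 ▸ h6)
    have h6 : w * z * w⁻¹ ∈ zc (S : Subgroup G) := by
      rw [e1]; exact mul_mem hz (hDZ hzD)
    have h7 := comm_of_mem (V := V) hD1 hmax (a := 1) (b := w) (by rw [cj_one]; exact hDZ) (hDle w hwX)
      (x := w * z * w⁻¹) (by rw [cj_one]; exact h6) (mem_cj_self hz) h5
    rw [cj_one] at h7
    refine h4 (pow_four' hv2 hw2 ?_)
    exact (mem_centralizer_iff.1 (h7 hv) _ (mem_cj_self hv)).symm
  -- (2b)
  have h2b : ∀ a ∈ cj g (zc (S : Subgroup G)), a * v = v * a → a ∈ D := by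
    intro a ha hav
    by_contra han
    have e1 : v * a * v⁻¹ = a := by rw [← hav, mul_inv_cancel_right]
    have h5 : a ∈ cj (v * g) (zc (S : Subgroup G)) := by
      rw [← cj_cj, ← e1]
      exact mem_cj_self ha
    have h7 := comm_of_mem (V := V) hD1 hmax (a := g) (b := v * g) (hDle g hg)
      (hDle _ (mul_mem hvX hg)) ha h5 han
    refine h4 (pow_four hv2 hw2 ?_)
    have h8 : v * w * v⁻¹ ∈ cj (v * g) V := by
      rw [← cj_cj]; exact mem_cj_self hwV
    exact (mem_centralizer_iff.1 (h7 hwV) _ h8).symm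
  have h2c : ∀ a ∈ cj g (zc (S : Subgroup G)), a ∈ centralizer (V : Set G) → a ∈ D := fun a ha hac =>
    h2b a ha (mem_centralizer_iff.1 hac v hv).symm
  -- (3)
  obtain ⟨z₀, hz₀, hz₀D⟩ := hlt
  set a₀ := g * z₀ * g⁻¹ with ha₀
  have ha₀y : a₀ ∈ cj g (zc (S : Subgroup G)) := mem_cj_self hz₀
  have ha₀D : a₀ ∉ D := by
    intro h5
    have h6 := hdc g⁻¹ (inv_mem hg) _ h5
    have e2 : g⁻¹ * a₀ * g⁻¹⁻¹ = z₀ := by rw [ha₀]; group
    rw [e2] at h6
    exact hz₀D (h6 ▸ h5)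
  obtain ⟨d, hd, hd1⟩ : ∃ d ∈ D, d ≠ 1 := by
    obtain ⟨d, hd⟩ := Subgroup.ne_bot_iff_exists_ne_one.1 hD1
    exact ⟨d, d.2, fun h0 => hd (Subtype.ext h0)⟩
  have ha₀S : a₀ ∈ (S : Subgroup G) := hOS (hyO ha₀y)
  obtain ⟨v', hv', hv'd⟩ := h.surj ha₀S (fun h5 => ha₀D (h2c _ ha₀y h5)) (hDZ hd)
  have hv'Z : v' ∉ zc (S : Subgroup G) := by
    intro h5
    apply hd1
    rw [← hv'd, hZc a₀ ha₀S v' h5]
    group
  have hv'X := hVX hv'
  have hcom : cj g V ≤ centralizer ((cj (v' * g) V : Subgroup G) : Set G) := by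
    have e1 : v' * a₀ * v'⁻¹ = d⁻¹ * a₀ := by
      rw [← hv'd]; group
    have h5 : d⁻¹ * a₀ ∈ cj g (zc (S : Subgroup G)) := mul_mem (inv_mem (hDle g hg hd)) ha₀y
    refine comm_of_mem (V := V) hD1 hmax (hDle g hg) (hDle _ (mul_mem hv'X hg)) (x := d⁻¹ * a₀) h5 ?_ ?_
    · rw [← cj_cj, ← e1]; exact mem_cj_self ha₀y
    · intro h6
      exact ha₀D ((D.mul_mem_cancel_left (D.inv_mem hd)).1 h6)
  -- (4)
  set w' := v' * w * v'⁻¹ with hw'
  have hw'V : w' ∈ cj (v' * g) V := by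
    rw [← cj_cj]; exact mem_cj_self hwV
  have hww' : w' * w = w * w' := mem_centralizer_iff.1 (hcom hwV) _ hw'V
  have hw'2 : w' * w' = 1 := by
    calc w' * w' = v' * (w * w) * v'⁻¹ := by rw [hw']; group
      _ = 1 := by rw [hw2]; group
  have hee : w * w' * (w * w') = 1 := by
    calc w * w' * (w * w') = w * (w' * w) * w' := by group
      _ = (w * w) * (w' * w') := by rw [hww']; group
      _ = 1 := by rw [hw2, hw'2, mul_one]
  have hay : ∀ z ∈ zc (S : Subgroup G), z⁻¹ * (w * z * w⁻¹) ∈ cj g (zc (S : Subgroup G)) := by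
    intro z hz
    have h5 : z⁻¹ ∈ cj g (S : Subgroup G) := by
      have h6 := cj_mono g hOS
      rw [hO, cj_eq_of_mem_normalizer (hOn hg)] at h6
      exact h6 (inv_mem (hZO hz))
    have h6 := h.act _ (mem_cj.1 h5) v hv
    rw [mem_cj]
    have e1 : g⁻¹ * (z⁻¹ * (w * z * w⁻¹)) * g = g⁻¹ * z⁻¹ * g * v * (g⁻¹ * z⁻¹ * g)⁻¹ * v⁻¹ := by
      rw [hw]; group
    rwa [e1]
  have key : ∀ z ∈ zc (S : Subgroup G), w * w' * z * (w * w')⁻¹ =
      z * ((z⁻¹ * (w * z * w⁻¹))⁻¹ * (v' * (z⁻¹ * (w * z * w⁻¹)) * v'⁻¹)) := by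
    intro z hz
    set a := z⁻¹ * (w * z * w⁻¹) with ha
    have ha' : v' * a * v'⁻¹ ∈ cj (v' * g) V := by
      rw [← cj_cj]
      exact mem_cj_self (cj_mono g h.Z_le (hay z hz))
    have h5 : v' * a * v'⁻¹ * w = w * (v' * a * v'⁻¹) := mem_centralizer_iff.1 (hcom hwV) _ ha'
    have h6 : v' * z = z * v' := h.vcomm hv' (h.Z_le hz)
    have haa : a⁻¹ = a := by
      refine inv_eq_of_mul_eq_one_left ?_
      have h7 := mem_cj.1 (cj_mono g h.Z_le (hay z hz))
      have h8 := h.sqm h7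
      calc a * a = g * (g⁻¹ * a * g * (g⁻¹ * a * g)) * g⁻¹ := by group
        _ = 1 := by rw [h8]; group
    have e1 : w' * z * w'⁻¹ = z * (v' * a * v'⁻¹) := by
      calc w' * z * w'⁻¹ = v' * w * (v'⁻¹ * z * v') * w⁻¹ * v'⁻¹ := by rw [hw']; group
        _ = v' * w * z * w⁻¹ * v'⁻¹ := by rw [mul_assoc v'⁻¹ z v', ← h6]; group
        _ = (v' * z) * a * v'⁻¹ := by rw [ha]; group
        _ = z * (v' * a * v'⁻¹) := by rw [h6]; group
    calc w * w' * z * (w * w')⁻¹ = w * (w' * z * w'⁻¹) * w⁻¹ := by group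
      _ = w * z * (v' * a * v'⁻¹) * w⁻¹ := by rw [e1]; group
      _ = w * z * w⁻¹ * (w * (v' * a * v'⁻¹)) * w⁻¹ := by group
      _ = w * z * w⁻¹ * (v' * a * v'⁻¹) := by rw [← h5]; group
      _ = z * (a * (v' * a * v'⁻¹)) := by rw [ha]; group
      _ = z * (a⁻¹ * (v' * a * v'⁻¹)) := by rw [haa]
  have hcZ : ∀ z ∈ zc (S : Subgroup G),
      (z⁻¹ * (w * z * w⁻¹))⁻¹ * (v' * (z⁻¹ * (w * z * w⁻¹)) * v'⁻¹) ∈ zc (S : Subgroup G) := by
    intro z hz
    have h5 := h.act _ (inv_mem (hOS (hyO (hay z hz)))) v' hv'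
    convert h5 using 1
    group
  have hfix : ∀ z ∈ zc (S : Subgroup G),
      v' * (z⁻¹ * (w * z * w⁻¹)) * v'⁻¹ = z⁻¹ * (w * z * w⁻¹) := by
    intro z hz
    have h5 := two_cent_mem S hee (fun z hz => by rw [key z hz]; exact mul_mem hz (hcZ z hz)) hz
    rw [key z hz, mul_eq_left, inv_mul_eq_one] at h5
    exact h5.symm
  -- (5)
  have h5 := hfix z₀ hz₀
  refine hz₀D (h2a z₀ hz₀ (h2c _ (hay z₀ hz₀) (h.free _ (hOS (hyO (hay z₀ hz₀))) v' hv' hv'Z ?_)))
  rw [mul_inv_eq_iff_eq_mul] at h5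
  exact h5.symm

/-- **THEOREM TI-NAT**: there is no bad `D`. -/
theorem not_bad (D : Subgroup G) : ¬ Bad S V D := by
  intro hbad
  obtain ⟨D, hD, hmax⟩ := Set.exists_max_image {D : Subgroup G | Bad S V D} (fun D => Nat.card D)
    (Set.toFinite _) ⟨D, hbad⟩
  have hmax' : ∀ E, Bad S V E → Nat.card E ≤ Nat.card D := hmax
  obtain ⟨hD1, hDZ, g, hDg, hn⟩ := hD
  have hlt : ∃ z ∈ zc (S : Subgroup G), z ∉ D := by
    by_contra hcon
    push Not at hcon
    have h1 : zc (S : Subgroup G) ≤ D := hcon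
    exact hn (h.comm_point (h1.trans hDg))
  have h1 := h.core hD1 hDZ hmax' hlt
  refine hn (h.comm_of_le hDZ hDg h1 ?_)
  have h2 : cj g⁻¹ D ≤ zc (S : Subgroup G) := by rw [cj_le_iff, inv_inv]; exact hDg
  have h3 := h.core (D := cj g⁻¹ D) (cj_ne_bot hD1) h2 (fun E hE => by rw [card_cj]; exact hmax' E hE) (by
    by_contra hcon
    push Not at hcon
    have h4 : Nat.card (zc (S : Subgroup G)) ≤ Nat.card (cj g⁻¹ D) := Subgroup.card_le_of_le hcon
    rw [card_cj] at h4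
    obtain ⟨z, hz, hzD⟩ := hlt
    exact hzD ((Subgroup.eq_of_le_of_card_ge hDZ h4) ▸ hz))
  have h4 := cj_mono g h3
  rwa [← o2_cj, cj_centralizer, cj_cj_inv] at h4

/-- **Lines on points above `D ≠ 1` commute.** -/
theorem ti {D : Subgroup G} (hD : D ≠ ⊥) {a b : G} (ha : D ≤ cj a (zc (S : Subgroup G)))
    (hb : D ≤ cj b (zc (S : Subgroup G))) : cj a V ≤ centralizer ((cj b V : Subgroup G) : Set G) := by
  by_contra hcon
  exact h.not_bad _ (bad_of hD ha hb hcon)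

/-- **`V ≤ O₂(C_G(D))` for all `1 ≠ D ≤ Z`.** -/
theorem le_o2 {D : Subgroup G} (hD : D ≠ ⊥) (hDZ : D ≤ zc (S : Subgroup G)) :
    V ≤ o2 (centralizer (D : Set G)) := by
  intro v hv
  by_contra hvO
  have hVX : V ≤ centralizer (D : Set G) := h.comm.trans (centralizer_le (hDZ.trans h.Z_le))
  obtain ⟨g, hg, hn⟩ := exists_not_comm h.sq hVX hv hvO
  have ht : g⁻¹ * v * g ∈ centralizer (D : Set G) := mul_mem (mul_mem (inv_mem hg) (hVX hv)) hg
  have h1 := h.ti hD (a := 1) (b := g⁻¹ * v * g) (by rw [cj_one]; exact hDZ) (by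
    have := cj_mono (g⁻¹ * v * g) hDZ
    rwa [cj_eq_of_mem_normalizer (centralizer_le_normalizer _ ht)] at this)
  rw [cj_one] at h1
  exact hn h1

end NLine

end Cfsg.Agent.Omega.NO3S.TINat
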